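import Groth.Agent.Lib.RootDatum.PosSys

/-!
The Weyl group of a finite crystallographic root pairing (possibly non-reduced): simple reflections,
exchange condition, simple transitivity on systems of positive roots.
-/

noncomputable section

open Set Function Module
open Groth.Agent.Lib.RootDatum.Basic Groth.Agent.Lib.RootDatum.PosSys

set_option linter.unusedSectionVars false
set_option linter.style.haveILetI false

namespace Groth.Agent.Lib.RootDatum.Weyl

variable {ι R M N : Type*} [CommRing R] [AddCommGroup M] [Module R M] [AddCommGroup N] [Module R N]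
  (P : RootPairing ι R M N) [IsDomain R] [CharZero R]

/-- the reflection as an automorphism -/
abbrev refl (i : ι) : P.Aut := RootPairing.Equiv.reflection P i

/-- product of the reflections along a word -/
abbrev wordProd (l : List ι) : P.Aut := (l.map fun a => refl P a).prod

/-- subgroup generated by the reflections in a set -/
abbrev genBy (T : Set ι) : Subgroup P.Aut := Subgroup.closure ((fun i : ι => refl P i) '' T)

lemma genBy_le (T : Set ι) : genBy P T ≤ P.weylGroup :=
  (Subgroup.closure_le _).mpr fun _ ⟨i, _, h⟩ => h ▸ P.reflection_mem_weylGroup i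

lemma refl_mem_genBy {T : Set ι} {i : ι} (h : i ∈ T) : refl P i ∈ genBy P T :=
  Subgroup.subset_closure ⟨i, h, rfl⟩

lemma wordProd_mem {T : Set ι} {l : List ι} (hl : ∀ a ∈ l, a ∈ T) : wordProd P l ∈ genBy P T :=
  Subgroup.list_prod_mem _ fun x hx => by
    obtain ⟨a, ha, rfl⟩ := List.mem_map.mp hx
    exact refl_mem_genBy P (hl a ha)

lemma refl_inv (i : ι) : (refl P i)⁻¹ = refl P i := RootPairing.Equiv.reflection_inv P i

lemma exists_word {T : Set ι} {g : P.Aut} (hg : g ∈ genBy P T) :
    ∃ l : List ι, (∀ a ∈ l, a ∈ T) ∧ wordProd P l = g := by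
  induction hg using Subgroup.closure_induction with
  | mem x hx => obtain ⟨a, ha, rfl⟩ := hx; exact ⟨[a], by simpa using ha, by simp [wordProd]⟩
  | one => exact ⟨[], by simp, by simp [wordProd]⟩
  | mul x y _ _ hx hy =>
    obtain ⟨l, hl, rfl⟩ := hx
    obtain ⟨m, hm, rfl⟩ := hy
    exact ⟨l ++ m, fun a ha => (List.mem_append.mp ha).elim (hl a) (hm a), by simp [wordProd]⟩
  | inv x _ hx =>
    obtain ⟨l, hl, rfl⟩ := hx
    refine ⟨l.reverse, fun a ha => hl a (List.mem_reverse.mp ha), ?_⟩
    simp only [wordProd, List.prod_inv_reverse, List.map_reverse, List.map_map]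
    congr 2
    exact List.map_congr_left fun a _ => (refl_inv P a).symm

lemma exists_minimal_word {T : Set ι} {g : P.Aut} (hg : g ∈ genBy P T) :
    ∃ l : List ι, (∀ a ∈ l, a ∈ T) ∧ wordProd P l = g ∧
      ∀ l' : List ι, (∀ a ∈ l', a ∈ T) → wordProd P l' = g → l.length ≤ l'.length := by
  classical
  have h : ∃ n, ∃ l : List ι, (∀ a ∈ l, a ∈ T) ∧ wordProd P l = g ∧ l.length = n := by
    obtain ⟨l, h1, h2⟩ := exists_word P hg
    exact ⟨_, l, h1, h2, rfl⟩
  obtain ⟨l, h1, h2, h3⟩ := Nat.find_spec h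
  exact ⟨l, h1, h2, fun l' h1' h2' => h3 ▸ Nat.find_min' h ⟨l', h1', h2', rfl⟩⟩

lemma smul_sub_mem_span {g : P.Aut} (hg : g ∈ P.weylGroup) (m : M) :
    g • m - m ∈ Submodule.span R (range P.root) := by
  induction hg using RootPairing.weylGroup.induction generalizing m with
  | mem i =>
    rw [reflection_smul_weight, sub_sub_cancel_left]
    exact neg_mem (Submodule.smul_mem _ _ (Submodule.subset_span (mem_range_self i)))
  | one => simp
  | mul x y _ _ hx hy =>
    have h : (x * y) • m - m = (x • (y • m) - y • m) + (y • m - m) := by rw [mul_smul]; abel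
    rw [h]
    exact add_mem (hx _) (hy _)

lemma smul_sub_mem_spanZ_of_genBy {T : Set ι} {g : P.Aut} (hg : g ∈ genBy P T)
    [P.IsCrystallographic] (k : ι) :
    P.root (g • k) - P.root k ∈ Submodule.span ℤ (P.root '' T) := by
  induction hg using Subgroup.closure_induction'' generalizing k with
  | one => simp
  | mem x hx =>
    obtain ⟨a, ha, rfl⟩ := hx
    change P.root (P.reflectionPerm a k) - P.root k ∈ _
    rw [root_reflectionPerm_eq, sub_sub_cancel_left]
    exact neg_mem (Submodule.smul_mem _ _ (Submodule.subset_span ⟨a, ha, rfl⟩))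
  | inv_mem x hx =>
    obtain ⟨a, ha, rfl⟩ := hx
    rw [refl_inv]
    change P.root (P.reflectionPerm a k) - P.root k ∈ _
    rw [root_reflectionPerm_eq, sub_sub_cancel_left]
    exact neg_mem (Submodule.smul_mem _ _ (Submodule.subset_span ⟨a, ha, rfl⟩))
  | mul x y _ _ hx hy =>
    have h : P.root ((x * y) • k) - P.root k =
        (P.root (x • (y • k)) - P.root (y • k)) + (P.root (y • k) - P.root k) := by
      rw [mul_smul]; abel
    rw [h]
    exact add_mem (hx _) (hy _)

lemma refl_eq_of_reflection_eq {i j : ι} (h : P.reflection i = P.reflection j) :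
    refl P i = refl P j := aut_ext P fun m => LinearEquiv.congr_fun h m

variable [P.IsCrystallographic] [Finite ι]

lemma refl_eq_of_double {i l : ι} (h : P.root l = (2 : ℕ) • P.root i) : refl P l = refl P i :=
  refl_eq_of_reflection_eq P (reflection_eq_of_root_double P h)

lemma refl_negIdx (i : ι) : refl P (negIdx P i) = refl P i :=
  aut_ext P fun m => by
    rw [reflection_smul_weight, reflection_smul_weight, root_negIdx]
    have : P.coroot' (negIdx P i) m = -P.coroot' i m := by
      change P.toLinearMap m (P.coroot (negIdx P i)) = -P.toLinearMap m (P.coroot i)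
      rw [coroot_negIdx, map_neg]
    rw [this, neg_smul_neg]

lemma isIndiv_iff (i : ι) : RootD.IsIndiv P i ↔ ∀ j, P.root i ≠ (2 : ℕ) • P.root j := by
  have h : ∀ j, (2 : R) • P.root j = (2 : ℕ) • P.root j := fun j => by
    rw [← Nat.cast_smul_eq_nsmul R]; norm_num
  simp only [RootD.IsIndiv, h, ne_comm]

lemma smul_nsmul_comm (g : P.Aut) (n : ℕ) (x : M) : g • (n • x) = n • (g • x) :=
  map_nsmul (DistribSMul.toAddMonoidHom M g) n x

lemma isIndiv_smul (g : P.Aut) {i : ι} (h : RootD.IsIndiv P i) : RootD.IsIndiv P (g • i) := by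
  rw [isIndiv_iff] at h ⊢
  intro j hj
  refine h (g⁻¹ • j) ?_
  rw [root_smul, ← smul_nsmul_comm P g⁻¹ 2 (P.root j), ← hj, root_smul, inv_smul_smul]

lemma isIndiv_negIdx {i : ι} (h : RootD.IsIndiv P i) : RootD.IsIndiv P (negIdx P i) := by
  have : negIdx P i = refl P i • i := rfl
  rw [this]
  exact isIndiv_smul P _ h

lemma exists_indiv (k : ι) : RootD.IsIndiv P k ∨
    ∃ j, RootD.IsIndiv P j ∧ P.root k = (2 : ℕ) • P.root j := by
  by_cases h : RootD.IsIndiv P k
  · exact Or.inl h
  simp only [isIndiv_iff, ne_eq, not_forall, not_not] at h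
  obtain ⟨j, hj⟩ := h
  refine Or.inr ⟨j, ?_, hj⟩
  rw [isIndiv_iff]
  intro m hm
  rw [hm, ← mul_nsmul] at hj
  rcases nat_multiple_mem P hj with ⟨h4, -⟩ | h4 <;> norm_num at h4

lemma natSpan_smul (g : P.Aut) {S : Set ι} {x : M} (h : x ∈ RootD.natSpan P S) :
    g • x ∈ RootD.natSpan P ((fun i : ι => g • i) '' S) :=
  natSpan_le P (S := S) (K := (RootD.natSpan P ((fun i : ι => g • i) '' S)).comap
      (DistribSMul.toAddMonoidHom M g))
    (fun i hi => by
      rw [AddSubmonoid.mem_comap]
      change g • P.root i ∈ RootD.natSpan P ((fun i : ι => g • i) '' S)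
      rw [← root_smul]
      exact root_mem_natSpan P ⟨i, hi, rfl⟩) h

lemma mem_image_smul {S : Set ι} {g : P.Aut} {i : ι} :
    i ∈ (fun j : ι => g • j) '' S ↔ g⁻¹ • i ∈ S :=
  ⟨fun ⟨j, hj, h⟩ => by rw [← h, inv_smul_smul]; exact hj,
    fun h => ⟨_, h, smul_inv_smul g i⟩⟩

lemma isClosedSub_smul (g : P.Aut) {S : Set ι} (hS : RootD.IsClosedSub P S) :
    RootD.IsClosedSub P ((fun i : ι => g • i) '' S) := by
  intro i j k hi hj h
  rw [mem_image_smul] at hi hj ⊢
  refine hS hi hj ?_
  rw [root_smul, root_smul, root_smul, h, smul_add]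

lemma isPosSys_smul (g : P.Aut) {S : Set ι} (hS : RootD.IsPosSys P S) :
    RootD.IsPosSys P ((fun i : ι => g • i) '' S) := by
  refine isPosSys_of_closed P (fun i hi hn => ?_) (fun i => ?_)
    (isClosedSub_smul P g (isClosed_of_isPosSys P hS))
  · rw [mem_image_smul] at hi hn
    rw [smul_negIdx] at hn
    exact hS.disjoint hi hn
  · rw [mem_image_smul, mem_image_smul, smul_negIdx]
    exact hS.cover _

lemma isSimpleSys_smul (g : P.Aut) {Δ : Set ι} (hΔ : RootD.IsSimpleSys P Δ) :
    RootD.IsSimpleSys P ((fun i : ι => g • i) '' Δ) := by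
  refine ⟨?_, fun i => ?_⟩
  · refine (linearIndepOn_equiv (MulAction.toPerm g : ι ≃ ι)).mp ?_
    have hinj : Injective ((DistribSMul.toAddMonoidHom M g)) := MulAction.injective g
    have h := hΔ.linInd
    rw [linearIndepOn_iff'] at h ⊢
    intro s c hs hc a ha
    refine h s c hs (hinj ?_) a ha
    rw [map_sum, map_zero, ← hc]
    refine Finset.sum_congr rfl fun b _ => ?_
    change g • (c b • P.root b) = c b • P.root (g • b)
    rw [smul_comm, root_smul]
  · rcases hΔ.mem_or_neg_mem (g⁻¹ • i) with h | h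
    · left
      have := natSpan_smul P g h
      rwa [← root_smul, smul_inv_smul] at this
    · right
      have := natSpan_smul P g h
      rwa [smul_neg, ← root_smul, smul_inv_smul] at this

lemma image_smul_posOf (g : P.Aut) {Δ : Set ι} (hΔ : RootD.IsSimpleSys P Δ) :
    (fun i : ι => g • i) '' RootD.posOf P Δ = RootD.posOf P ((fun i : ι => g • i) '' Δ) :=
  (subset_posSys_iff (isSimpleSys_smul P g hΔ) (isPosSys_smul P g (isPosSys_posOf hΔ))).mp
    (Set.image_mono fun _ hi => self_mem_posOf hΔ hi)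

section Simple

variable {P}
variable {Δ : Set ι} (hΔ : RootD.IsSimpleSys P Δ)
include hΔ

/-- An indivisible root is conjugate to a simple root. -/
theorem exists_smul_simple {k : ι} (hk : RootD.IsIndiv P k) :
    ∃ g ∈ genBy P Δ, ∃ i ∈ Δ, g • i = k := by
  have key : ∀ k, RootD.IsIndiv P k → k ∈ RootD.posOf P Δ →
      ∃ g ∈ genBy P Δ, ∃ i ∈ Δ, g • i = k := by
    intro k hk hpos
    induction hn : (ht hΔ k).natAbs using Nat.strongRecOn generalizing k with
    | ind n ih =>
      by_cases hkΔ : k ∈ Δ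
      · exact ⟨1, one_mem _, k, hkΔ, one_smul _ _⟩
      obtain ⟨l, hl, hs⟩ := (mem_natSpan_iff_list P).mp hpos
      obtain ⟨a, ha, hp⟩ := exists_pos_of_sum P (k := k) one_pos (by simpa using hs)
      have haΔ := hl a ha
      have hp' := pz_pos_symm P hp
      have hne2 : P.root k ≠ (2 : ℕ) • P.root a := (isIndiv_iff P k).mp hk a
      have hmem := reflectionPerm_mem_posOf hΔ haΔ hpos (fun h => hkΔ (h ▸ haΔ)) hne2
      have hht : ht hΔ (P.reflectionPerm a k) = ht hΔ k + (-pz P k a) :=
        ht_add_zsmul hΔ haΔ (by rw [root_reflectionPerm_eq]; module)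
      have h1 := ht_pos hΔ hpos
      have h2 := ht_pos hΔ hmem
      obtain ⟨g, hg, i, hi, hgi⟩ := ih (ht hΔ (P.reflectionPerm a k)).natAbs
        (by rw [← hn]; lia) (P.reflectionPerm a k) (isIndiv_smul P (refl P a) hk) hmem rfl
      refine ⟨refl P a * g, mul_mem (refl_mem_genBy P haΔ) hg, i, hi, ?_⟩
      rw [mul_smul, hgi]
      exact P.reflectionPerm_self a k
  rcases (isPosSys_posOf hΔ).cover k with h | h
  · exact key k hk h
  · obtain ⟨g, hg, i, hi, hgi⟩ := key _ (isIndiv_negIdx P hk) h
    refine ⟨g * refl P i, mul_mem hg (refl_mem_genBy P hi), i, hi, ?_⟩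
    rw [mul_smul]
    change g • negIdx P i = k
    rw [smul_negIdx, hgi, negIdx_negIdx]

theorem genBy_simple : genBy P Δ = P.weylGroup := by
  refine le_antisymm (genBy_le P Δ) ((Subgroup.closure_le _).mpr ?_)
  rintro _ ⟨k, rfl⟩
  have key : ∀ k, RootD.IsIndiv P k → refl P k ∈ genBy P Δ := fun k hk => by
    obtain ⟨g, hg, i, hi, rfl⟩ := exists_smul_simple hΔ hk
    change RootPairing.Equiv.reflection P (g • i) ∈ genBy P Δ
    rw [← conj_reflection]
    exact mul_mem (mul_mem hg (refl_mem_genBy P hi)) (inv_mem hg)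
  rcases exists_indiv P k with hk | ⟨j, hj, hkj⟩
  · exact key k hk
  · change refl P k ∈ genBy P Δ
    rw [refl_eq_of_double P hkj]
    exact key j hj

/-- The exchange condition. -/
theorem exchange : ∀ {l : List ι}, (∀ b ∈ l, b ∈ Δ) → ∀ {a : ι}, a ∈ Δ →
    wordProd P l • a ∉ RootD.posOf P Δ →
    ∃ l' : List ι, (∀ b ∈ l', b ∈ l) ∧ l'.length + 1 = l.length ∧
      wordProd P l' = wordProd P l * refl P a
  | [], _, a, ha, h => absurd (by simpa [wordProd] using self_mem_posOf hΔ ha) h
  | b :: t, hl, a, ha, h => by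
    by_cases ht : wordProd P t • a ∈ RootD.posOf P Δ
    · have hb := hl b (by simp)
      have hnot : P.reflectionPerm b (wordProd P t • a) ∉ RootD.posOf P Δ := by
        simpa [wordProd, mul_smul] using! h
      have heq : wordProd P t • a = b := by
        refine (multiple_of_reflectionPerm_notMem hΔ hb ht hnot).resolve_right ?_
        exact (isIndiv_iff P _).mp (isIndiv_smul P _ (isIndiv_simple hΔ ha)) b
      refine ⟨t, fun c hc => by simp [hc], by simp, ?_⟩
      have hcj := conj_reflection P (wordProd P t) a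
      rw [heq] at hcj
      have hb' : refl P b = wordProd P t * refl P a * (wordProd P t)⁻¹ := hcj.symm
      have hsq : refl P a * refl P a = 1 := reflection_mul_self P a
      have : wordProd P (b :: t) = refl P b * wordProd P t := by simp [wordProd]
      rw [this, hb', inv_mul_cancel_right, mul_assoc, hsq, mul_one]
    · obtain ⟨t', hsub, hlen, hprod⟩ := exchange (fun c hc => hl c (by simp [hc])) ha ht
      refine ⟨b :: t', ?_, by simp [hlen], ?_⟩
      · intro c hc
        rcases List.mem_cons.mp hc with rfl | hc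
        · simp
        · exact List.mem_cons_of_mem _ (hsub c hc)
      · simp only [wordProd, List.map_cons, List.prod_cons, mul_assoc] at hprod ⊢
        rw [hprod]

/-- In a minimal word, the last letter is sent to a positive root by the shorter word. -/
theorem posOf_of_minimal {Δ' : Set ι} (hsub : Δ' ⊆ Δ) {l : List ι} {a : ι}
    (hl : ∀ b ∈ l, b ∈ Δ') (ha : a ∈ Δ')
    (hmin : ∀ l' : List ι, (∀ b ∈ l', b ∈ Δ') → wordProd P l' = wordProd P (l ++ [a]) →
      (l ++ [a]).length ≤ l'.length) :
    wordProd P l • a ∈ RootD.posOf P Δ := by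
  by_contra h
  obtain ⟨l', h1, h2, h3⟩ := exchange hΔ (fun b hb => hsub (hl b hb)) (hsub ha) h
  have := hmin l' (fun b hb => hl b (h1 b hb)) (by simp [wordProd] at h3 ⊢; exact h3)
  simp only [List.length_append, List.length_singleton] at this
  lia

theorem notMem_posOf_of_minimal {Δ' : Set ι} (hsub : Δ' ⊆ Δ) {l : List ι} {a : ι}
    (hl : ∀ b ∈ l, b ∈ Δ') (ha : a ∈ Δ')
    (hmin : ∀ l' : List ι, (∀ b ∈ l', b ∈ Δ') → wordProd P l' = wordProd P (l ++ [a]) →
      (l ++ [a]).length ≤ l'.length) :
    wordProd P (l ++ [a]) • a ∉ RootD.posOf P Δ := by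
  have h := posOf_of_minimal hΔ hsub hl ha hmin
  have : wordProd P (l ++ [a]) • a = negIdx P (wordProd P l • a) := by
    rw [← smul_negIdx]
    simp [wordProd]
    rfl
  rw [this]
  exact (isPosSys_posOf hΔ).disjoint h

theorem eq_one_of_mapsTo {g : P.Aut} (hg : g ∈ P.weylGroup)
    (h : ∀ k ∈ RootD.posOf P Δ, g • k ∈ RootD.posOf P Δ) : g = 1 := by
  rw [← genBy_simple hΔ] at hg
  obtain ⟨l, hl, rfl, hmin⟩ := exists_minimal_word P hg
  rcases List.eq_nil_or_concat l with rfl | ⟨t, a, rfl⟩
  · simp [wordProd]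
  · simp only [List.concat_eq_append] at *
    exact absurd (h a (self_mem_posOf hΔ (hl a (by simp))))
      (notMem_posOf_of_minimal hΔ subset_rfl (fun b hb => hl b (by simp [hb])) (hl a (by simp)) hmin)

theorem eq_one_of_image_eq {g : P.Aut} (hg : g ∈ P.weylGroup)
    (h : (fun i : ι => g • i) '' Δ = Δ) : g = 1 := by
  refine eq_one_of_mapsTo hΔ hg fun k hk => ?_
  rw [← h, ← image_smul_posOf P g hΔ]
  exact ⟨k, hk, rfl⟩

/-- The action on a weight of the Weyl group element of a minimal word. -/
theorem exists_sub_smul_eq {Δ' : Set ι} (hsub : Δ' ⊆ Δ) : ∀ (l : List ι), (∀ b ∈ l, b ∈ Δ') →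
    (∀ l' : List ι, (∀ b ∈ l', b ∈ Δ') → wordProd P l' = wordProd P l → l.length ≤ l'.length) →
    ∃ L : List (ι × ι), L.map Prod.fst = l ∧ (∀ p ∈ L, p.2 ∈ RootD.posOf P Δ ∧
        P.root p.2 ∈ Submodule.span ℤ (P.root '' Δ')) ∧
      ∀ m : M, m - wordProd P l • m = (L.map fun p => P.coroot' p.1 m • P.root p.2).sum := by
  intro l
  induction l using List.reverseRecOn with
  | nil => intro _ _; exact ⟨[], rfl, by simp, fun m => by simp [wordProd]⟩
  | append_singleton t a ih =>
    intro hl hmin
    have htΔ : ∀ b ∈ t, b ∈ Δ' := fun b hb => hl b (by simp [hb])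
    have ha : a ∈ Δ' := hl a (by simp)
    obtain ⟨L, hL1, hL2, hL3⟩ := ih htΔ (fun l' h1 h2 => by
      have := hmin (l' ++ [a]) (by simpa [or_imp, forall_and, ha] using h1)
        (by simp [wordProd] at h2 ⊢; rw [h2])
      simpa using this)
    refine ⟨L ++ [(a, wordProd P t • a)], by simp [hL1], ?_, fun m => ?_⟩
    · intro p hp
      rcases List.mem_append.mp hp with hp | hp
      · exact hL2 p hp
      · rw [List.mem_singleton] at hp
        subst hp
        refine ⟨posOf_of_minimal hΔ hsub htΔ ha hmin, ?_⟩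
        have h := smul_sub_mem_spanZ_of_genBy P (wordProd_mem P htΔ) a
        have h2 : P.root a ∈ Submodule.span ℤ (P.root '' Δ') :=
          Submodule.subset_span ⟨a, ha, rfl⟩
        simpa using add_mem h h2
    · have hsplit : wordProd P (t ++ [a]) = wordProd P t * refl P a := by simp [wordProd]
      rw [List.map_append, List.sum_append, ← hL3 m, hsplit, mul_smul, reflection_smul_weight,
        smul_sub, smul_comm]
      simp only [List.map_cons, List.map_nil, List.sum_cons, List.sum_nil, root_smul]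
      abel

end Simple

/-- Every closed set meeting each pair of opposite roots contains a conjugate of any system of
positive roots. -/
theorem exists_smul_posSys_subset {S : Set ι} (hS : RootD.IsPosSys P S) {P' : Set ι}
    (hP2 : ∀ i, i ∈ P' ∨ negIdx P i ∈ P') (hcl : RootD.IsClosedSub P P') :
    ∃ g : P.Aut, g ∈ P.weylGroup ∧ (fun i : ι => g • i) '' S ⊆ P' := by
  classical
  haveI := Fintype.ofFinite ι
  let cnt : P.Aut → ℕ := fun g => (Finset.univ.filter fun k => k ∈ S ∧ g • k ∈ P').card
  have hb : BddAbove (cnt '' (P.weylGroup : Set P.Aut)) :=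
    ⟨Fintype.card ι, by rintro _ ⟨g, -, rfl⟩; exact Finset.card_le_univ _⟩
  obtain ⟨g, hg, hmax⟩ : ∃ g ∈ P.weylGroup, ∀ g' ∈ P.weylGroup, cnt g' ≤ cnt g := by
    have hne : (cnt '' (P.weylGroup : Set P.Aut)).Nonempty := ⟨_, 1, one_mem _, rfl⟩
    obtain ⟨g, hg, hg'⟩ := Nat.sSup_mem hne hb
    exact ⟨g, hg, fun g' hg1 => hg' ▸ le_csSup hb ⟨g', hg1, rfl⟩⟩
  refine ⟨g, hg, ?_⟩
  have hΔ := isSimpleSys_simples P hS
  have hcl' := isClosedSub_smul P g⁻¹ hcl
  suffices hsimp : ∀ a ∈ simples P S, g • a ∈ P' by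
    rintro _ ⟨k, hk, rfl⟩
    rw [← posOf_simples P hS] at hk
    have := natSpan_subset P hcl' (T := simples P S)
      (fun a ha => (mem_image_smul P).mpr (by simpa using hsimp a ha)) hk
    simpa using (mem_image_smul P).mp this
  intro a ha
  by_contra hna
  have hneg : negIdx P (g • a) ∈ P' := (hP2 _).resolve_left hna
  have hdbl : ∀ k, P.root k = (2 : ℕ) • P.root a → g • k ∉ P' := fun k hk hk' =>
    hna (hcl hk' hneg (by rw [root_negIdx, root_smul, root_smul, hk, two_nsmul, smul_add]; abel))
  have hlt : cnt g < cnt (g * refl P a) := by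
    have hsub : ((Finset.univ.filter fun k => k ∈ S ∧ g • k ∈ P').image (P.reflectionPerm a)) ⊂
        Finset.univ.filter fun k => k ∈ S ∧ (g * refl P a) • k ∈ P' := by
      rw [Finset.ssubset_iff_of_subset]
      · refine ⟨a, ?_, ?_⟩
        · simp only [Finset.mem_filter, Finset.mem_univ, true_and]
          refine ⟨ha.1, ?_⟩
          rw [mul_smul]
          change g • negIdx P a ∈ P'
          rwa [smul_negIdx]
        · intro hmem
          simp only [Finset.mem_image, Finset.mem_filter, Finset.mem_univ, true_and] at hmem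
          obtain ⟨k, ⟨hkS, -⟩, hk⟩ := hmem
          have h2 : k = negIdx P a := by
            rw [← P.reflectionPerm_self a k, hk]
          rw [h2] at hkS
          exact hS.disjoint ha.1 hkS
      · intro x hx
        simp only [Finset.mem_image, Finset.mem_filter, Finset.mem_univ, true_and] at hx ⊢
        obtain ⟨k, ⟨hkS, hkP⟩, rfl⟩ := hx
        refine ⟨?_, ?_⟩
        · rw [← posOf_simples P hS] at hkS ⊢
          refine reflectionPerm_mem_posOf hΔ ha hkS (fun h => hna (h ▸ hkP)) fun h => hdbl k h hkP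
        · rw [mul_smul]
          change g • P.reflectionPerm a (P.reflectionPerm a k) ∈ P'
          rwa [P.reflectionPerm_self]
    have := Finset.card_lt_card hsub
    rwa [Finset.card_image_of_injective _ (P.reflectionPerm a).injective] at this
  exact absurd (hmax _ (mul_mem hg (P.reflection_mem_weylGroup a))) (not_le.mpr hlt)

theorem exists_smul_posSys_eq {S S' : Set ι} (hS : RootD.IsPosSys P S)
    (hS' : RootD.IsPosSys P S') :
    ∃ g : P.Aut, g ∈ P.weylGroup ∧ (fun i : ι => g • i) '' S = S' := by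
  obtain ⟨g, hg, h⟩ := exists_smul_posSys_subset P hS hS'.cover (isClosed_of_isPosSys P hS')
  exact ⟨g, hg, posSys_eq_of_subset P (isPosSys_smul P g hS) hS' h⟩

theorem exists_smul_simpleSys_eq {Δ Δ' : Set ι} (hΔ : RootD.IsSimpleSys P Δ)
    (hΔ' : RootD.IsSimpleSys P Δ') :
    ∃ g : P.Aut, g ∈ P.weylGroup ∧ (fun i : ι => g • i) '' Δ = Δ' := by
  obtain ⟨g, hg, h⟩ := exists_smul_posSys_eq P (isPosSys_posOf hΔ) (isPosSys_posOf hΔ')
  refine ⟨g, hg, ?_⟩
  rw [image_smul_posOf P g hΔ] at h
  rw [← simples_posOf (isSimpleSys_smul P g hΔ), h, simples_posOf hΔ']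

theorem eq_one_of_fix {u : P.Aut} (hfix : ∀ i : ι, u • i = i)
    (hs : ∀ m : M, ∃ n : ℕ, 0 < n ∧ n • (u • m - m) ∈ Submodule.span R (range P.root)) :
    u = 1 := by
  refine aut_ext P fun m => ?_
  rw [one_smul]
  obtain ⟨n, hn, hmem⟩ := hs m
  rw [← sub_eq_zero]
  refine nsmul_eq_zero_weight P hn.ne'
    (eq_zero_of_mem_span_of_coroot'_eq_zero P hmem fun k => ?_)
  have := coroot'_smul P u k m
  rw [hfix] at this
  rw [map_nsmul, map_sub, this, sub_self, smul_zero]

theorem weylGroupToPerm_injective : Injective P.weylGroupToPerm := by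
  rw [injective_iff_map_eq_one]
  rintro ⟨g, hg⟩ h
  refine Subtype.ext (eq_one_of_fix P (fun i => ?_) fun m => ⟨1, one_pos, ?_⟩)
  · exact Equiv.ext_iff.mp h i
  · rw [one_nsmul]; exact smul_sub_mem_span P hg m

theorem finite_weylGroup : Finite P.weylGroup :=
  Finite.of_injective _ (weylGroupToPerm_injective P)

end Groth.Agent.Lib.RootDatum.Weyl
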