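import Groth.Agent.Lib.RootDatum.Basic

/-!
Closed sets of roots, systems of positive roots and systems of simple roots, for finite
crystallographic root pairings over a domain of characteristic zero (possibly non-reduced).
-/

noncomputable section

open Set Function Module
open Groth.Agent.Lib.RootDatum.Basic

set_option linter.unusedSectionVars false
set_option linter.style.haveILetI false

namespace Groth.Agent.Lib.RootDatum.PosSys

variable {ι R M N : Type*} [CommRing R] [AddCommGroup M] [Module R M] [AddCommGroup N] [Module R N]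
  (P : RootPairing ι R M N)

lemma list_sum_mem_natSpan {S : Set ι} {l : List ι} (hl : ∀ a ∈ l, a ∈ S) :
    (l.map P.root).sum ∈ RootD.natSpan P S :=
  list_sum_mem fun x hx => by
    obtain ⟨a, ha, rfl⟩ := List.mem_map.mp hx
    exact AddSubmonoid.subset_closure ⟨a, hl a ha, rfl⟩

lemma mem_natSpan_iff_list {S : Set ι} {x : M} :
    x ∈ RootD.natSpan P S ↔ ∃ l : List ι, (∀ a ∈ l, a ∈ S) ∧ (l.map P.root).sum = x := by
  refine ⟨fun h => ?_, fun ⟨l, hl, hx⟩ => hx ▸ list_sum_mem_natSpan P hl⟩
  refine AddSubmonoid.closure_induction ?_ ⟨[], by simp, by simp⟩ ?_ h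
  · rintro _ ⟨a, ha, rfl⟩
    exact ⟨[a], by simpa using ha, by simp⟩
  · rintro _ _ _ _ ⟨l, hl, rfl⟩ ⟨l', hl', rfl⟩
    exact ⟨l ++ l', fun a ha => (List.mem_append.mp ha).elim (hl a) (hl' a), by simp⟩

lemma root_mem_natSpan {S : Set ι} {i : ι} (h : i ∈ S) : P.root i ∈ RootD.natSpan P S :=
  AddSubmonoid.subset_closure ⟨i, h, rfl⟩

lemma natSpan_mono {S T : Set ι} (h : S ⊆ T) : RootD.natSpan P S ≤ RootD.natSpan P T :=
  AddSubmonoid.closure_mono (Set.image_mono h)

lemma natSpan_le {S : Set ι} {K : AddSubmonoid M} (h : ∀ i ∈ S, P.root i ∈ K) :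
    RootD.natSpan P S ≤ K :=
  AddSubmonoid.closure_le.mpr fun _ ⟨i, hi, hx⟩ => hx ▸ h i hi

lemma natSpan_posOf_le (Δ : Set ι) : RootD.natSpan P (RootD.posOf P Δ) ≤ RootD.natSpan P Δ :=
  natSpan_le P fun _ h => h

lemma zsmul_root_mem_natSpan {S : Set ι} {i : ι} (h : i ∈ S) {z : ℤ} (hz : 0 ≤ z) :
    z • P.root i ∈ RootD.natSpan P S := by
  obtain ⟨n, rfl⟩ := Int.eq_ofNat_of_zero_le hz
  rw [natCast_zsmul]
  exact nsmul_mem (root_mem_natSpan P h) n

lemma natSpan_le_span (S : Set ι) :
    ∀ x ∈ RootD.natSpan P S, x ∈ Submodule.span ℤ (P.root '' S) := fun _ hx =>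
  natSpan_le P (K := (Submodule.span ℤ (P.root '' S)).toAddSubmonoid)
    (fun _ hi => Submodule.subset_span ⟨_, hi, rfl⟩) hx

lemma mem_spanR_of_mem_natSpan {S : Set ι} {x : M} (h : x ∈ RootD.natSpan P S) :
    x ∈ Submodule.span R (range P.root) :=
  natSpan_le P (K := (Submodule.span R (range P.root)).toAddSubmonoid)
    (fun i _ => Submodule.subset_span ⟨i, rfl⟩) h

variable [IsDomain R] [CharZero R] [P.IsCrystallographic] [Finite ι]

/-- In a sum equal to a root `k`, some summand pairs positively with `k`. -/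
lemma exists_pos_of_sum {k : ι} {l : List ι} {c : ℕ} (hc : 0 < c)
    (h : (l.map P.root).sum = c • P.root k) : ∃ a ∈ l, 0 < pz P a k := by
  by_contra! hn
  have h1 : (l.map fun a => pz P a k).sum ≤ 0 :=
    (List.sum_le_card_nsmul _ 0 fun z hz => by
      obtain ⟨a, ha, rfl⟩ := List.mem_map.mp hz
      exact hn a ha).trans (by simp)
  have h2 : ((l.map fun a => pz P a k).sum : R) = ((2 * c : ℤ) : R) := by
    rw [← coroot'_list_sum, h, map_nsmul, coroot'_root, pz_self]
    push_cast
    rw [nsmul_eq_mul]; ring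
  have h3 : (l.map fun a => pz P a k).sum = 2 * (c : ℤ) := Int.cast_injective h2
  lia

/-- Induction along a chain of roots with partial sums roots. -/
lemma natSpan_induction {T : Set ι} {p : ι → Prop}
    (base : ∀ a ∈ T, p a)
    (step : ∀ k j a, a ∈ T → P.root k = P.root j + P.root a →
      P.root j ∈ RootD.natSpan P T → p j → p k)
    {k : ι} (hk : P.root k ∈ RootD.natSpan P T) : p k := by
  classical
  obtain ⟨l, hl, hs⟩ := (mem_natSpan_iff_list P).mp hk
  clear hk
  induction hn : l.length using Nat.strongRecOn generalizing l k with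
  | ind n ih =>
    obtain ⟨a, ha, hpos⟩ := exists_pos_of_sum P (k := k) one_pos (by simpa using hs)
    by_cases hak : a = k
    · exact hak ▸ base a (hl a ha)
    obtain ⟨j, hj⟩ := sub_mem P hpos hak
    have hsum : P.root a + ((l.erase a).map P.root).sum = P.root k := by
      rw [← hs, ((List.perm_cons_erase ha).map P.root).sum_eq, List.map_cons, List.sum_cons]
    have hj' : P.root (negIdx P j) = P.root k - P.root a := by rw [root_negIdx, hj]; abel
    have hmem : ∀ b ∈ l.erase a, b ∈ T := fun b hb => hl b (List.mem_of_mem_erase hb)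
    have hs' : ((l.erase a).map P.root).sum = P.root (negIdx P j) := by rw [hj', ← hsum]; abel
    have hlen : (l.erase a).length < n := by
      rw [← hn, List.length_erase_of_mem ha]
      have := List.length_pos_of_mem ha
      lia
    refine step k (negIdx P j) a (hl a ha) (by rw [hj']; abel) ?_
      (ih _ hlen (l.erase a) hmem hs' rfl)
    rw [← hs']
    exact list_sum_mem_natSpan P hmem

lemma mem_of_natSpan {S : Set ι} (hS : RootD.IsClosedSub P S) {k : ι}
    (hk : P.root k ∈ RootD.natSpan P S) : k ∈ S :=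
  natSpan_induction P (p := fun k => k ∈ S) (fun _ h => h)
    (fun _ _ _ ha he _ hj => hS hj ha he) hk

lemma natSpan_subset {S T : Set ι} (hS : RootD.IsClosedSub P S) (hT : T ⊆ S) :
    RootD.posOf P T ⊆ S :=
  fun _ hk => mem_of_natSpan P hS (natSpan_mono P hT hk)

/-- A nonempty sum in a closed set without opposite roots is not orthogonal to all coroots. -/
lemma exists_coroot'_sum_ne_zero {S : Set ι} (hd : ∀ i ∈ S, negIdx P i ∉ S)
    (hS : RootD.IsClosedSub P S) {l : List ι} (hl : ∀ a ∈ l, a ∈ S) (hne : l ≠ []) :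
    ∃ k, P.coroot' k (l.map P.root).sum ≠ 0 := by
  induction hn : l.length using Nat.strongRecOn generalizing l with
  | ind n ih =>
    cases l with
    | nil => exact absurd rfl hne
    | cons a t =>
      classical
      by_contra! hz
      have h0 : ((a :: t).map fun b => pz P b a).sum = 0 := by
        apply Int.cast_injective (α := R)
        rw [← coroot'_list_sum, hz a, Int.cast_zero]
      rw [List.map_cons, List.sum_cons, pz_self] at h0
      obtain ⟨b, hb, hneg⟩ : ∃ b ∈ t, pz P b a < 0 := by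
        by_contra! hn'
        have : 0 ≤ (t.map fun b => pz P b a).sum := List.sum_nonneg fun z hz => by
          obtain ⟨b, hb, rfl⟩ := List.mem_map.mp hz
          exact hn' b hb
        lia
      have hne' : P.root b ≠ -P.root a := fun h => hd a (hl a (by simp)) <| by
        rw [(negIdx_eq_iff P).mpr h]; exact hl b (by simp [hb])
      obtain ⟨m, hm⟩ := add_mem P hneg hne'
      have hmS : m ∈ S := hS (hl b (by simp [hb])) (hl a (by simp)) hm
      have hsum : ((m :: t.erase b).map P.root).sum = ((a :: t).map P.root).sum := by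
        simp only [List.map_cons, List.sum_cons]
        rw [((List.perm_cons_erase hb).map P.root).sum_eq (l₁ := t.map P.root),
          List.map_cons, List.sum_cons, hm]
        abel
      obtain ⟨k, hk⟩ := ih (t.erase b).length.succ
        (by rw [← hn, List.length_erase_of_mem hb]
            have := List.length_pos_of_mem hb
            simp only [List.length_cons]; lia)
        (l := m :: t.erase b)
        (by
          intro c hc
          rcases List.mem_cons.mp hc with rfl | hc
          · exact hmS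
          · exact hl c (List.mem_cons_of_mem _ (List.mem_of_mem_erase hc)))
        (by simp) (by simp)
      exact hk (hsum ▸ hz k)

lemma eq_zero_of_natSpan_of_coroot'_eq_zero {S : Set ι} (hd : ∀ i ∈ S, negIdx P i ∉ S)
    (hS : RootD.IsClosedSub P S) {x : M} (_hx : x ∈ RootD.natSpan P S)
    (h : ∀ k, P.coroot' k x = 0) :
    ∀ l : List ι, (∀ a ∈ l, a ∈ S) → (l.map P.root).sum = x → l = [] := by
  intro l hl hs
  by_contra hne
  obtain ⟨k, hk⟩ := exists_coroot'_sum_ne_zero P hd hS hl hne
  exact hk (hs ▸ h k)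

lemma root_add_ne_zero {S : Set ι} (hd : ∀ i ∈ S, negIdx P i ∉ S)
    (hS : RootD.IsClosedSub P S) {a : ι} (ha : a ∈ S) {y : M} (hy : y ∈ RootD.natSpan P S) :
    P.root a + y ≠ 0 := by
  intro h
  obtain ⟨l, hl, rfl⟩ := (mem_natSpan_iff_list P).mp hy
  obtain ⟨k, hk⟩ := exists_coroot'_sum_ne_zero P hd hS (l := a :: l)
    (by simpa [ha] using hl) (by simp)
  simp only [List.map_cons, List.sum_cons, h, map_zero, ne_eq, not_true] at hk

lemma eq_zero_of_natSpan_neg {S : Set ι} (hd : ∀ i ∈ S, negIdx P i ∉ S)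
    (hS : RootD.IsClosedSub P S) {x : M} (h1 : x ∈ RootD.natSpan P S)
    (h2 : -x ∈ RootD.natSpan P S) : x = 0 := by
  obtain ⟨l, hl, rfl⟩ := (mem_natSpan_iff_list P).mp h1
  cases l with
  | nil => simp
  | cons a t =>
    exfalso
    rw [List.map_cons, List.sum_cons] at h2
    refine root_add_ne_zero P hd hS (hl a (by simp)) (y := (t.map P.root).sum +
      -(P.root a + (t.map P.root).sum)) ?_ (by abel)
    exact add_mem (list_sum_mem_natSpan P fun b hb => hl b (by simp [hb])) h2

lemma isPosSys_of_closed {S : Set ι} (hd : ∀ i ∈ S, negIdx P i ∉ S)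
    (hc : ∀ i, i ∈ S ∨ negIdx P i ∈ S) (hS : RootD.IsClosedSub P S) : RootD.IsPosSys P S := by
  refine ⟨fun i hi => hd i hi, hc, fun k n hn hk => ?_⟩
  rcases hc k with h | h
  · exact h
  exfalso
  refine root_add_ne_zero P hd hS h (y := ((n - 1 : ℕ) • P.root (negIdx P k)) + n • P.root k) ?_ ?_
  · exact add_mem (nsmul_mem (root_mem_natSpan P h) _) hk
  · obtain ⟨m, rfl⟩ : ∃ m, n = m + 1 := ⟨n - 1, by lia⟩
    simp only [Nat.add_sub_cancel, root_negIdx, smul_neg, succ_nsmul]
    abel

lemma isClosed_of_isPosSys {S : Set ι} (hS : RootD.IsPosSys P S) : RootD.IsClosedSub P S := by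
  intro i j k hi hj h
  refine hS.sat 1 one_pos ?_
  rw [one_nsmul, h]
  exact add_mem (root_mem_natSpan P hi) (root_mem_natSpan P hj)

lemma isPosSys_iff (S : Set ι) : RootD.IsPosSys P S ↔
    ((∀ i ∈ S, negIdx P i ∉ S) ∧ (∀ i, i ∈ S ∨ negIdx P i ∈ S) ∧ RootD.IsClosedSub P S) :=
  ⟨fun h => ⟨fun _ hi => h.disjoint hi, h.cover, isClosed_of_isPosSys P h⟩,
    fun ⟨a, b, c⟩ => isPosSys_of_closed P a b c⟩

lemma posSys_disjoint {S : Set ι} (hS : RootD.IsPosSys P S) : ∀ i ∈ S, negIdx P i ∉ S :=
  fun _ hi => hS.disjoint hi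

lemma not_mem_iff {S : Set ι} (hS : RootD.IsPosSys P S) {i : ι} : i ∉ S ↔ negIdx P i ∈ S :=
  ⟨fun h => (hS.cover i).resolve_left h, fun h hi => hS.disjoint hi h⟩

lemma posSys_eq_of_subset {S T : Set ι} (hS : RootD.IsPosSys P S) (hT : RootD.IsPosSys P T)
    (h : S ⊆ T) : S = T := by
  refine Subset.antisymm h fun i hi => ?_
  by_contra hn
  exact hT.disjoint hi (h ((not_mem_iff P hS).mp hn))

/-- The indecomposable elements of a set of roots. -/
def simples (S : Set ι) : Set ι :=
  {k | k ∈ S ∧ ¬ ∃ i j : ι, i ∈ S ∧ j ∈ S ∧ P.root k = P.root i + P.root j}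

lemma simples_subset (S : Set ι) : simples P S ⊆ S := fun _ h => h.1

lemma mem_natSpan_simples {S : Set ι} (hd : ∀ i ∈ S, negIdx P i ∉ S)
    (hS : RootD.IsClosedSub P S) {k : ι} (hk : k ∈ S) :
    P.root k ∈ RootD.natSpan P (simples P S) := by
  let B : ι → Set ι := fun k => {i | i ≠ k ∧ P.root k - P.root i ∈ RootD.natSpan P S}
  induction hn : (B k).ncard using Nat.strongRecOn generalizing k with
  | ind n ih =>
    by_cases hs : k ∈ simples P S
    · exact root_mem_natSpan P hs
    obtain ⟨i, j, hi, hj, h⟩ : ∃ i j : ι, i ∈ S ∧ j ∈ S ∧ P.root k = P.root i + P.root j := by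
      simpa [simples, hk] using hs
    have key : ∀ i j, i ∈ S → j ∈ S → P.root k = P.root i + P.root j →
        (B i).ncard < n := by
      intro i j hi hj h
      rw [← hn]
      refine Set.ncard_lt_ncard ⟨?_, fun hsub => ?_⟩ (Set.toFinite _)
      · rintro l ⟨hli, hl⟩
        refine ⟨fun hlk => ?_, ?_⟩
        · subst hlk
          exact root_add_ne_zero P hd hS hj hl (by rw [h]; abel)
        · have : P.root k - P.root l = P.root j + (P.root i - P.root l) := by rw [h]; abel
          rw [this]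
          exact add_mem (root_mem_natSpan P hj) hl
      · have hik : i ∈ B k :=
          ⟨fun e => P.ne_zero j (by rw [e] at h; exact left_eq_add.mp h),
            by rw [h, add_sub_cancel_left]; exact root_mem_natSpan P hj⟩
        exact (hsub hik).1 rfl
    rw [h]
    exact add_mem (ih _ (key i j hi hj h) hi rfl)
      (ih _ (key j i hj hi (h.trans (add_comm _ _))) hj rfl)

lemma simples_pz_nonpos {S : Set ι} (hS : RootD.IsPosSys P S) {i j : ι}
    (hi : i ∈ simples P S) (hj : j ∈ simples P S) (hne : i ≠ j) : pz P i j ≤ 0 := by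
  by_contra! h
  obtain ⟨m, hm⟩ := sub_mem P h hne
  rcases hS.cover m with hm' | hm'
  · exact hi.2 ⟨m, j, hm', hj.1, by rw [hm]; abel⟩
  · exact hj.2 ⟨negIdx P m, i, hm', hi.1, by rw [root_negIdx, hm]; abel⟩

lemma linearIndepOn_simples {S : Set ι} (hS : RootD.IsPosSys P S) :
    LinearIndepOn ℤ P.root (simples P S) := by
  classical
  haveI := Fintype.ofFinite ι
  rw [linearIndepOn_iff']
  intro t g ht hg
  let f : ι → ℤ := fun a => max (g a) 0
  let h : ι → ℤ := fun a => max (-g a) 0
  have hgf : ∀ a, g a = f a - h a := fun a => by simp only [f, h]; lia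
  have hfh : ∀ a, f a * h a = 0 := fun a => by
    simp only [f, h]
    rcases le_total 0 (g a) with h' | h'
    · rw [max_eq_right (by lia : -g a ≤ 0), mul_zero]
    · rw [max_eq_right h', zero_mul]
  let x := ∑ a ∈ t, f a • P.root a
  have hx : x = ∑ a ∈ t, h a • P.root a := by
    rw [← sub_eq_zero, ← Finset.sum_sub_distrib]
    simpa only [← sub_smul, ← hgf] using hg
  let vf : ι → ℤ := fun k => ∑ a ∈ t, f a * pz P a k
  let vh : ι → ℤ := fun k => ∑ a ∈ t, h a * pz P a k
  have hcf : ∀ k, P.coroot' k x = (vf k : R) := fun k => by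
    simp only [x, vf, map_sum, map_zsmul, coroot'_root, zsmul_eq_mul]; push_cast; rfl
  have hch : ∀ k, P.coroot' k x = (vh k : R) := fun k => by
    simp only [hx, vh, map_sum, map_zsmul, coroot'_root, zsmul_eq_mul]; push_cast; rfl
  have heq : ∀ k, vf k = vh k := fun k =>
    Int.cast_injective (α := R) ((hcf k).symm.trans (hch k))
  have hsq : ∑ k, vf k * vf k ≤ 0 := by
    calc ∑ k, vf k * vf k = ∑ k, vf k * vh k := by simp only [heq]
      _ = ∑ a ∈ t, ∑ b ∈ t, f a * h b * bz P a b := by
        simp only [vf, vh, bz, Finset.mul_sum, Finset.sum_mul]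
        conv_lhs => rw [Finset.sum_comm]
        conv_lhs => enter [2, a]; rw [Finset.sum_comm]
        rw [Finset.sum_comm]
        exact Finset.sum_congr rfl fun a _ => Finset.sum_congr rfl fun b _ =>
          Finset.sum_congr rfl fun k _ => by ring
      _ ≤ 0 := Finset.sum_nonpos fun a ha => Finset.sum_nonpos fun b hb => by
        by_cases hab : a = b
        · subst hab; rw [hfh, zero_mul]
        · have h1 := simples_pz_nonpos P hS (ht ha) (ht hb) hab
          have h2 := two_mul_bz P a b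
          have h3 := bz_self_pos P b
          have h4 : bz P a b ≤ 0 := by nlinarith
          exact mul_nonpos_of_nonneg_of_nonpos
            (mul_nonneg (le_max_right _ _) (le_max_right _ _)) h4
  have hzero : ∀ k, vf k = 0 := fun k =>
    mul_self_eq_zero.mp ((Finset.sum_eq_zero_iff_of_nonneg fun k _ => mul_self_nonneg _).mp
      (le_antisymm hsq (Finset.sum_nonneg fun k _ => mul_self_nonneg _)) k (Finset.mem_univ _))
  have key : ∀ c : ι → ℤ, (∀ a, 0 ≤ c a) →
      (∀ k, P.coroot' k (∑ a ∈ t, c a • P.root a) = 0) → ∀ a ∈ t, c a = 0 := by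
    intro c hc hz a ha
    by_contra hne
    have hpos : 1 ≤ c a := by have := hc a; lia
    have hmem : ∀ b ∈ t, c b • P.root b ∈ RootD.natSpan P S := fun b hb =>
      zsmul_root_mem_natSpan P (ht hb).1 (hc b)
    refine root_add_ne_zero P (posSys_disjoint P hS) (isClosed_of_isPosSys P hS) (ht ha).1
      (y := (c a - 1) • P.root a + ∑ b ∈ t.erase a, c b • P.root b) ?_ ?_
    · exact add_mem (zsmul_root_mem_natSpan P (ht ha).1 (by lia))
        (sum_mem fun b hb => hmem b (Finset.mem_of_mem_erase hb))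
    · have h0 := eq_zero_of_mem_span_of_coroot'_eq_zero P
        (mem_spanR_of_mem_natSpan P (sum_mem hmem)) hz
      rw [← Finset.add_sum_erase _ _ ha] at h0
      rw [← add_assoc, sub_smul, one_smul, add_sub_cancel, h0]
  intro a ha
  rw [hgf a, key f (fun _ => le_max_right _ _) (fun k => by rw [hcf k, hzero k, Int.cast_zero]) a ha,
    key h (fun _ => le_max_right _ _)
      (fun k => by rw [← hx, hcf k, hzero k, Int.cast_zero]) a ha, sub_zero]

theorem isSimpleSys_simples {S : Set ι} (hS : RootD.IsPosSys P S) :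
    RootD.IsSimpleSys P (simples P S) := by
  refine ⟨linearIndepOn_of_int P (linearIndepOn_simples P hS), fun i => ?_⟩
  rcases hS.cover i with h | h
  · exact Or.inl (mem_natSpan_simples P (posSys_disjoint P hS) (isClosed_of_isPosSys P hS) h)
  · refine Or.inr ?_
    simpa using mem_natSpan_simples P (posSys_disjoint P hS) (isClosed_of_isPosSys P hS) h

theorem posOf_simples {S : Set ι} (hS : RootD.IsPosSys P S) :
    RootD.posOf P (simples P S) = S :=
  Subset.antisymm (natSpan_subset P (isClosed_of_isPosSys P hS) (simples_subset P S))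
    fun _ hk => mem_natSpan_simples P (posSys_disjoint P hS) (isClosed_of_isPosSys P hS) hk

section Simple

variable {P}
variable {Δ : Set ι} (hΔ : RootD.IsSimpleSys P Δ)
include hΔ

lemma linInd_int : LinearIndepOn ℤ P.root Δ := hΔ.linInd.restrict_scalars' ℤ

lemma comb_inj {c d : ι →₀ ℤ} (hc : ↑c.support ⊆ Δ) (hd : ↑d.support ⊆ Δ)
    (h : Finsupp.linearCombination ℤ P.root c = Finsupp.linearCombination ℤ P.root d) : c = d := by
  refine sub_eq_zero.mp (linearIndepOn_iff.mp (linInd_int hΔ) (c - d) ?_ ?_)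
  · rw [Finsupp.mem_supported]
    classical
    exact ((Finset.coe_subset.mpr Finsupp.support_sub).trans (by simp [hc, hd]))
  · rw [map_sub, h, sub_self]

omit hΔ in
lemma exists_comb {Δ : Set ι} {x : M} (hx : x ∈ RootD.natSpan P Δ) :
    ∃ c : ι →₀ ℤ, ↑c.support ⊆ Δ ∧ (∀ j, 0 ≤ c j) ∧ Finsupp.linearCombination ℤ P.root c = x := by
  classical
  refine AddSubmonoid.closure_induction ?_ ⟨0, by simp, by simp, by simp⟩ ?_ hx
  · rintro _ ⟨a, ha, rfl⟩
    refine ⟨Finsupp.single a 1, ?_, fun j => ?_, by simp⟩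
    · exact (Finset.coe_subset.mpr Finsupp.support_single_subset).trans (by simp [ha])
    · by_cases h : j = a
      · subst h; simp
      · simp [h]
  · rintro _ _ _ _ ⟨c, hc, hc', rfl⟩ ⟨d, hd, hd', rfl⟩
    exact ⟨c + d, (Finset.coe_subset.mpr Finsupp.support_add).trans (by simp [hc, hd]),
      fun j => add_nonneg (hc' j) (hd' j), map_add _ _ _⟩

omit hΔ in
lemma comb_mem_natSpan {Δ : Set ι} {c : ι →₀ ℤ} (hc : ↑c.support ⊆ Δ) (hc' : ∀ j, 0 ≤ c j) :
    Finsupp.linearCombination ℤ P.root c ∈ RootD.natSpan P Δ := by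
  rw [Finsupp.linearCombination_apply]
  exact sum_mem fun a ha => zsmul_root_mem_natSpan P (hc ha) (hc' a)

lemma exists_root_comb (k : ι) : ∃ c : ι →₀ ℤ, ↑c.support ⊆ Δ ∧
    Finsupp.linearCombination ℤ P.root c = P.root k := by
  rcases hΔ.mem_or_neg_mem k with h | h
  · obtain ⟨c, h1, -, h2⟩ := exists_comb h
    exact ⟨c, h1, h2⟩
  · obtain ⟨c, h1, -, h2⟩ := exists_comb h
    exact ⟨-c, by simpa using h1, by simp [h2]⟩

/-- The coefficients of a root with respect to a system of simple roots. -/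
def coeff (k : ι) : ι →₀ ℤ := (exists_root_comb hΔ k).choose

lemma coeff_support (k : ι) : ↑(coeff hΔ k).support ⊆ Δ := (exists_root_comb hΔ k).choose_spec.1

lemma comb_coeff (k : ι) : Finsupp.linearCombination ℤ P.root (coeff hΔ k) = P.root k :=
  (exists_root_comb hΔ k).choose_spec.2

lemma coeff_eq {k : ι} {c : ι →₀ ℤ} (hc : ↑c.support ⊆ Δ)
    (h : Finsupp.linearCombination ℤ P.root c = P.root k) : coeff hΔ k = c :=
  comb_inj hΔ (coeff_support hΔ k) hc ((comb_coeff hΔ k).trans h.symm)

lemma coeff_notMem {k j : ι} (hj : j ∉ Δ) : coeff hΔ k j = 0 := by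
  by_contra h
  exact hj (coeff_support hΔ k (Finsupp.mem_support_iff.mpr h))

lemma coeff_self {i : ι} (hi : i ∈ Δ) : coeff hΔ i = Finsupp.single i 1 :=
  coeff_eq hΔ ((Finset.coe_subset.mpr Finsupp.support_single_subset).trans (by simp [hi])) (by simp)

lemma coeff_negIdx (k : ι) : coeff hΔ (negIdx P k) = -coeff hΔ k :=
  coeff_eq hΔ (by simpa using coeff_support hΔ k) (by rw [map_neg, comb_coeff, root_negIdx])

lemma coeff_add {i j k : ι} (h : P.root k = P.root i + P.root j) :
    coeff hΔ k = coeff hΔ i + coeff hΔ j := by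
  classical
  exact coeff_eq hΔ ((Finset.coe_subset.mpr Finsupp.support_add).trans
    (by simp [coeff_support hΔ i, coeff_support hΔ j]))
    (by rw [map_add, comb_coeff, comb_coeff, h])

lemma coeff_add_zsmul {k l a : ι} {z : ℤ} (h : P.root l = P.root k + z • P.root a) :
    coeff hΔ l = coeff hΔ k + z • coeff hΔ a := by
  classical
  refine coeff_eq hΔ ((Finset.coe_subset.mpr Finsupp.support_add).trans ?_)
    (by rw [map_add, map_zsmul, comb_coeff, comb_coeff, h])
  rw [Finset.coe_union, Set.union_subset_iff]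
  exact ⟨coeff_support hΔ k,
    (Finset.coe_subset.mpr Finsupp.support_smul).trans (coeff_support hΔ a)⟩

lemma mem_posOf_iff {k : ι} : k ∈ RootD.posOf P Δ ↔ ∀ j, 0 ≤ coeff hΔ k j := by
  constructor
  · intro h
    obtain ⟨c, h1, h2, h3⟩ := exists_comb h
    rw [coeff_eq hΔ h1 h3]
    exact h2
  · intro h
    change P.root k ∈ RootD.natSpan P Δ
    rw [← comb_coeff hΔ k]
    exact comb_mem_natSpan (coeff_support hΔ k) h

lemma mem_posOf_of_pos {k j : ι} (h : 0 < coeff hΔ k j) : k ∈ RootD.posOf P Δ := by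
  rcases hΔ.mem_or_neg_mem k with h' | h'
  · exact h'
  · exfalso
    have := (mem_posOf_iff hΔ).mp (show negIdx P k ∈ RootD.posOf P Δ by
      change P.root (negIdx P k) ∈ RootD.natSpan P Δ; rwa [root_negIdx]) j
    rw [coeff_negIdx, Finsupp.neg_apply] at this
    lia

lemma coeff_ne_zero (k : ι) : coeff hΔ k ≠ 0 := fun h => P.ne_zero k <| by
  rw [← comb_coeff hΔ k, h, map_zero]

lemma self_mem_posOf {i : ι} (hi : i ∈ Δ) : i ∈ RootD.posOf P Δ := root_mem_natSpan P hi

theorem isPosSys_posOf : RootD.IsPosSys P (RootD.posOf P Δ) := by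
  refine isPosSys_of_closed P (fun i hi hn => ?_) (fun i => ?_) (fun i j k hi hj h => ?_)
  · refine coeff_ne_zero hΔ i (Finsupp.ext fun j => ?_)
    have h1 := (mem_posOf_iff hΔ).mp hi j
    have h2 := (mem_posOf_iff hΔ).mp hn j
    rw [coeff_negIdx, Finsupp.neg_apply] at h2
    rw [Finsupp.zero_apply]; lia
  · refine (hΔ.mem_or_neg_mem i).imp id fun h => ?_
    change P.root (negIdx P i) ∈ RootD.natSpan P Δ
    rwa [root_negIdx]
  · change P.root k ∈ RootD.natSpan P Δ
    rw [h]; exact add_mem hi hj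

lemma simples_posOf : simples P (RootD.posOf P Δ) = Δ := by
  have hS := isPosSys_posOf hΔ
  apply Subset.antisymm
  · rintro k ⟨hk, hn⟩
    refine natSpan_induction P (p := fun k => (k ∈ Δ ∨ ∃ i j : ι, i ∈ RootD.posOf P Δ ∧
      j ∈ RootD.posOf P Δ ∧ P.root k = P.root i + P.root j)) (fun a ha => Or.inl ha) ?_ hk
      |>.resolve_right hn
    exact fun k j a ha h hj _ => Or.inr ⟨j, a, hj, root_mem_natSpan P ha, h⟩
  · intro a ha
    refine ⟨self_mem_posOf hΔ ha, ?_⟩
    rintro ⟨i, j, hi, hj, h⟩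
    have key : ∀ b, (coeff hΔ i b = 0 ∨ coeff hΔ j b = 0) ∧ (b ≠ a → coeff hΔ i b = 0 ∧
        coeff hΔ j b = 0) ∧ coeff hΔ i b + coeff hΔ j b ≤ 1 := by
      intro b
      have h1 := (mem_posOf_iff hΔ).mp hi b
      have h2 := (mem_posOf_iff hΔ).mp hj b
      have h3 := congrArg (fun c => c b) (coeff_add hΔ h)
      classical
      rw [coeff_self hΔ ha] at h3
      simp only [Finsupp.coe_add, Pi.add_apply, Finsupp.single_apply] at h3
      by_cases hb : a = b
      · simp only [hb, if_true] at h3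
        exact ⟨by lia, fun hne => absurd hb.symm hne, by lia⟩
      · simp only [hb, if_false] at h3
        exact ⟨by lia, fun _ => ⟨by lia, by lia⟩, by lia⟩
    rcases (key a).1 with h0 | h0
    · exact coeff_ne_zero hΔ i (Finsupp.ext fun b => by
        by_cases hb : b = a
        · rw [hb]; exact h0
        · exact ((key b).2.1 hb).1)
    · exact coeff_ne_zero hΔ j (Finsupp.ext fun b => by
        by_cases hb : b = a
        · rw [hb]; exact h0
        · exact ((key b).2.1 hb).2)

lemma subset_posSys_iff {S : Set ι} (hS : RootD.IsPosSys P S) :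
    Δ ⊆ S ↔ S = RootD.posOf P Δ := by
  constructor
  · exact fun h => (posSys_eq_of_subset P (isPosSys_posOf hΔ) hS
      (natSpan_subset P (isClosed_of_isPosSys P hS) h)).symm
  · rintro rfl
    exact fun i hi => self_mem_posOf hΔ hi

/-- The sum of the coefficients. -/
def ht (k : ι) : ℤ := (coeff hΔ k).sum fun _ a => a

lemma ht_pos {k : ι} (hk : k ∈ RootD.posOf P Δ) : 0 < ht hΔ k := by
  have h := (mem_posOf_iff hΔ).mp hk
  obtain ⟨j, hj⟩ := Finsupp.support_nonempty_iff.mpr (coeff_ne_zero hΔ k)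
  exact Finset.sum_pos' (fun a _ => h a) ⟨j, hj, lt_of_le_of_ne (h j)
    (Ne.symm (Finsupp.mem_support_iff.mp hj))⟩

lemma ht_add {i j k : ι} (h : P.root k = P.root i + P.root j) : ht hΔ k = ht hΔ i + ht hΔ j := by
  rw [ht, coeff_add hΔ h]
  exact Finsupp.sum_add_index' (fun _ => rfl) (fun _ _ _ => rfl)

lemma ht_add_zsmul {k l a : ι} (ha : a ∈ Δ) {z : ℤ} (h : P.root l = P.root k + z • P.root a) :
    ht hΔ l = ht hΔ k + z := by
  rw [ht, coeff_add_zsmul hΔ h, coeff_self hΔ ha, Finsupp.smul_single, smul_eq_mul, mul_one,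
    Finsupp.sum_add_index' (fun _ => rfl) (fun _ _ _ => rfl), Finsupp.sum_single_index rfl]
  rfl

lemma ht_self {i : ι} (hi : i ∈ Δ) : ht hΔ i = 1 := by
  rw [ht, coeff_self hΔ hi, Finsupp.sum_single_index rfl]

theorem isIndiv_simple {i : ι} (hi : i ∈ Δ) : RootD.IsIndiv P i := by
  intro j hj
  have h2 : P.root i = P.root j + P.root j := by rw [← hj, two_smul]
  have h := congrArg (fun c => c i) (coeff_add hΔ h2)
  simp only [coeff_self hΔ hi, Finsupp.single_eq_same, Finsupp.coe_add, Pi.add_apply] at h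
  lia

/-- A positive root whose reflection in a simple root is negative is a multiple of that root. -/
lemma multiple_of_reflectionPerm_notMem {i k : ι} (hi : i ∈ Δ) (hk : k ∈ RootD.posOf P Δ)
    (h : P.reflectionPerm i k ∉ RootD.posOf P Δ) :
    k = i ∨ P.root k = (2 : ℕ) • P.root i := by
  classical
  have hrel : P.root (P.reflectionPerm i k) = P.root k + (-pz P k i) • P.root i := by
    rw [root_reflectionPerm_eq]; module
  have hc := coeff_add_zsmul hΔ hrel
  have hz : ∀ b, b ≠ i → coeff hΔ k b = 0 := by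
    intro b hb
    have h1 := (mem_posOf_iff hΔ).mp hk b
    have h2 : ¬ 0 < coeff hΔ (P.reflectionPerm i k) b := fun hp => h (mem_posOf_of_pos hΔ hp)
    simp [hc, coeff_self hΔ hi, Ne.symm hb] at h2
    lia
  have hi0 : 0 ≤ coeff hΔ k i := (mem_posOf_iff hΔ).mp hk i
  have hs : coeff hΔ k = Finsupp.single i (coeff hΔ k i) := Finsupp.ext fun b => by
    by_cases hb : i = b
    · subst hb; simp
    · rw [hz b (Ne.symm hb)]; simp [hb]
  have hroot : P.root k = coeff hΔ k i • P.root i := by
    conv_lhs => rw [← comb_coeff hΔ k, hs, Finsupp.linearCombination_single]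
  obtain ⟨n, hn⟩ := Int.eq_ofNat_of_zero_le hi0
  rw [hn, natCast_zsmul] at hroot
  rcases nat_multiple_mem P hroot with ⟨-, h1⟩ | h1
  · exact Or.inl h1
  · exact Or.inr (h1 ▸ hroot)

lemma reflectionPerm_mem_posOf {i k : ι} (hi : i ∈ Δ) (hk : k ∈ RootD.posOf P Δ) (hki : k ≠ i)
    (hki' : P.root k ≠ (2 : ℕ) • P.root i) : P.reflectionPerm i k ∈ RootD.posOf P Δ := by
  by_contra h
  rcases multiple_of_reflectionPerm_notMem hΔ hi hk h with h' | h'
  · exact hki h'
  · exact hki' h'

lemma mem_inSpanZ_iff {Δ' : Set ι} (hsub : Δ' ⊆ Δ) {k : ι} :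
    P.root k ∈ Submodule.span ℤ (P.root '' Δ') ↔ ↑(coeff hΔ k).support ⊆ Δ' := by
  constructor
  · intro h
    obtain ⟨c, hc, hk⟩ := (Finsupp.mem_span_image_iff_linearCombination ℤ).mp h
    rw [Finsupp.mem_supported] at hc
    rwa [coeff_eq hΔ (hc.trans hsub) hk]
  · intro h
    rw [← comb_coeff hΔ k]
    exact (Finsupp.mem_span_image_iff_linearCombination ℤ).mpr
      ⟨_, (Finsupp.mem_supported ℤ _).mpr h, rfl⟩

lemma mem_spanZ_of_nsmul {Δ' : Set ι} (hsub : Δ' ⊆ Δ) {k : ι} {n : ℕ} (hn : 0 < n)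
    (h : n • P.root k ∈ Submodule.span ℤ (P.root '' Δ')) :
    P.root k ∈ Submodule.span ℤ (P.root '' Δ') := by
  obtain ⟨c, hc, hk⟩ := (Finsupp.mem_span_image_iff_linearCombination ℤ).mp h
  rw [Finsupp.mem_supported] at hc
  rw [mem_inSpanZ_iff hΔ hsub]
  have hsupp : ↑((n : ℤ) • coeff hΔ k).support ⊆ Δ :=
    (Finset.coe_subset.mpr Finsupp.support_smul).trans (coeff_support hΔ k)
  have heq : (n : ℤ) • coeff hΔ k = c := comb_inj hΔ hsupp (hc.trans hsub) (by
    rw [map_zsmul, comb_coeff, hk, natCast_zsmul])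
  intro j hj
  apply hc
  rw [← heq, Finset.mem_coe, Finsupp.mem_support_iff, Finsupp.smul_apply, smul_eq_mul]
  exact mul_ne_zero (by exact_mod_cast hn.ne') (Finsupp.mem_support_iff.mp hj)

end Simple

theorem existsUnique_simpleSys_subset {S : Set ι} (hS : RootD.IsPosSys P S) :
    ∃! Δ : Set ι, RootD.IsSimpleSys P Δ ∧ Δ ⊆ S := by
  refine ⟨simples P S, ⟨isSimpleSys_simples P hS, simples_subset P S⟩, ?_⟩
  rintro Δ ⟨hΔ, hsub⟩
  rw [(subset_posSys_iff hΔ hS).mp hsub, simples_posOf hΔ]

/-- The roots positive for an additive map to an ordered group nonvanishing on all roots. -/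
theorem isPosSys_of_addHom {G : Type*} [AddCommGroup G] [PartialOrder G] [IsOrderedAddMonoid G]
    (f : ι → G) (hneg : ∀ i, f (negIdx P i) = -f i)
    (hadd : ∀ i j k, P.root k = P.root i + P.root j → f k = f i + f j)
    (hf : ∀ i, 0 < f i ∨ f i < 0) : RootD.IsPosSys P {i | 0 < f i} := by
  refine isPosSys_of_closed P (fun i hi hn => ?_) (fun i => ?_) (fun i j k hi hj h => ?_)
  · simp only [Set.mem_ofPred_eq] at hi hn
    rw [hneg, neg_pos] at hn
    exact lt_asymm hi hn
  · simp only [Set.mem_ofPred_eq, hneg, neg_pos]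
    exact hf i
  · simp only [Set.mem_ofPred_eq] at hi hj ⊢
    rw [hadd i j k h]
    exact add_pos hi hj

theorem exists_isPosSys : ∃ S : Set ι, RootD.IsPosSys P S := by
  haveI := Fintype.ofFinite ι
  let e := Fintype.equivFin ι
  let f : ι → Lex (Fin (Fintype.card ι) → ℤ) := fun i => toLex fun m => pz P i (e.symm m)
  refine ⟨_, isPosSys_of_addHom P f (fun i => ?_) (fun i j k h => ?_) (fun i => ?_)⟩
  · exact congrArg toLex (funext fun m => pz_negIdx_left P i _)
  · exact congrArg toLex (funext fun m => pz_add P h _)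
  · refine (lt_or_gt_of_ne (?_ : f i ≠ 0)).symm
    intro h
    have h' : pz P i (e.symm (e i)) = 0 := congrFun (congrArg ofLex h) (e i)
    simp at h'

end Groth.Agent.Lib.RootDatum.PosSys
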