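import Groth.Agent.Lib.RootDatum.Weyl
import Mathlib.LinearAlgebra.FreeModule.PID
import Mathlib.Algebra.Module.Torsion.Basic
import Mathlib.Algebra.Order.Group.PiLex

/-!
Saturated sub-systems, parabolic sets and orthogonal partitions of a finite crystallographic root
pairing (possibly non-reduced).
-/

noncomputable section

open Set Function Module
open Groth.Agent.Lib.RootDatum.Basic Groth.Agent.Lib.RootDatum.PosSys Groth.Agent.Lib.RootDatum.Weyl

set_option linter.unusedSectionVars false
set_option linter.style.haveILetI false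

namespace Groth.Agent.Lib.RootDatum.Sub

variable {ι R M N : Type*} [CommRing R] [AddCommGroup M] [Module R M] [AddCommGroup N] [Module R N]
  (P : RootPairing ι R M N)

variable [Finite ι]

/-- An additive function on roots with values in an ordered group whose zero set is the set of roots
in the saturation of the span of a given set. -/
theorem exists_fun_ker (T : Set M) :
    ∃ (m : ℕ) (f : ι → Lex (Fin m → ℤ)), (∀ i, f (negIdx P i) = -f i) ∧
      (∀ i j k, P.root k = P.root i + P.root j → f k = f i + f j) ∧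
      ∀ i, f i = 0 ↔ ∃ n : ℕ, 0 < n ∧ n • P.root i ∈ Submodule.span ℤ T := by
  let L : Submodule ℤ M := Submodule.span ℤ (range P.root)
  haveI : Module.Finite ℤ L := Module.Finite.span_of_finite ℤ (Set.finite_range _)
  let K : Submodule ℤ L := (Submodule.span ℤ T).comap L.subtype
  let Q := L ⧸ K
  let Q' := Q ⧸ Submodule.torsion ℤ Q
  let b := Module.Free.chooseBasis ℤ Q'
  let e := b.equivFun.trans (LinearEquiv.funCongrLeft ℤ ℤ (Fintype.equivFin _).symm)
  let q : L →ₗ[ℤ] Q' := (Submodule.torsion ℤ Q).mkQ ∘ₗ K.mkQ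
  let r : ι → L := fun i => ⟨P.root i, Submodule.subset_span (mem_range_self i)⟩
  refine ⟨_, fun i => toLex (e (q (r i))), fun i => ?_, fun i j k h => ?_, fun i => ?_⟩
  · have h : r (negIdx P i) = -r i := Subtype.ext (root_negIdx P i)
    simp only [h, map_neg]
    rfl
  · have h' : r k = r i + r j := Subtype.ext h
    simp only [h', map_add]
    rfl
  · constructor
    · intro h
      have h1 : q (r i) = 0 := e.map_eq_zero_iff.mp (toLex.injective h)
      have h2 : K.mkQ (r i) ∈ Submodule.torsion ℤ Q := (Submodule.Quotient.mk_eq_zero _).mp h1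
      obtain ⟨⟨a, ha⟩, h3⟩ := Submodule.mem_torsion_iff (K.mkQ (r i)) |>.mp h2
      have h4 : a • P.root i ∈ Submodule.span ℤ T := by
        have h5 : (Submodule.Quotient.mk (a • r i) : Q) = 0 := by
          rw [Submodule.Quotient.mk_smul]; exact h3
        exact (Submodule.Quotient.mk_eq_zero K).mp h5
      refine ⟨a.natAbs, Int.natAbs_pos.mpr (nonZeroDivisors.ne_zero ha), ?_⟩
      rcases Int.natAbs_eq a with h | h
      · rwa [← natCast_zsmul, ← h]
      · rw [h, neg_smul, natCast_zsmul, neg_mem_iff] at h4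
        exact h4
    · rintro ⟨n, hn, h⟩
      have h2 : K.mkQ (r i) ∈ Submodule.torsion ℤ Q := by
        refine (Submodule.mem_torsion_iff _).mpr
          ⟨⟨(n : ℤ), mem_nonZeroDivisors_of_ne_zero (by exact_mod_cast hn.ne')⟩, ?_⟩
        change (n : ℤ) • (Submodule.Quotient.mk (r i) : Q) = 0
        rw [← Submodule.Quotient.mk_smul]
        exact (Submodule.Quotient.mk_eq_zero K).mpr (by simpa [K, r] using h)
      have h1 : q (r i) = 0 := (Submodule.Quotient.mk_eq_zero _).mpr h2
      simp only [h1, map_zero]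
      rfl

variable [IsDomain R] [CharZero R] [P.IsCrystallographic]

section Refine

variable {G : Type*} [AddCommGroup G] [LinearOrder G] [IsOrderedAddMonoid G]

/-- Refining an ordering by a positive system on its zero set. -/
theorem isPosSys_refine (f : ι → G) (hneg : ∀ i, f (negIdx P i) = -f i)
    (hadd : ∀ i j k, P.root k = P.root i + P.root j → f k = f i + f j)
    (Q : Set ι) (h0 : ∀ i ∈ Q, f i = 0) (hd : ∀ i ∈ Q, negIdx P i ∉ Q)
    (hc : ∀ i, f i = 0 → i ∈ Q ∨ negIdx P i ∈ Q) (hcl : RootD.IsClosedSub P Q) :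
    RootD.IsPosSys P {i | 0 < f i ∨ i ∈ Q} := by
  refine isPosSys_of_closed P (fun i hi hn => ?_) (fun i => ?_) (fun i j k hi hj h => ?_)
  · rcases hi with hi | hi <;> rcases hn with hn | hn
    · rw [hneg] at hn; exact lt_asymm hi (neg_pos.mp hn)
    · have := h0 _ hn; rw [hneg, neg_eq_zero] at this; exact hi.ne' this
    · rw [hneg, h0 i hi, neg_zero] at hn; exact lt_irrefl _ hn
    · exact hd i hi hn
  · simp only [Set.mem_ofPred_eq, hneg, neg_pos]
    rcases lt_trichotomy (f i) 0 with h | h | h
    · exact Or.inr (Or.inl h)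
    · exact (hc i h).imp Or.inr Or.inr
    · exact Or.inl (Or.inl h)
  · simp only [Set.mem_ofPred_eq, hadd i j k h] at hi hj ⊢
    rcases hi with hi | hi <;> rcases hj with hj | hj
    · exact Or.inl (add_pos hi hj)
    · exact Or.inl (by rw [h0 j hj, add_zero]; exact hi)
    · exact Or.inl (by rw [h0 i hi, zero_add]; exact hj)
    · exact Or.inr (hcl hi hj h)

/-- A positive root killed by an additive function non-negative on the positive roots is a combination
of simple roots killed by it. -/
theorem face {S : Set ι} (hS : RootD.IsPosSys P S) (f : ι → G)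
    (hadd : ∀ i j k, P.root k = P.root i + P.root j → f k = f i + f j)
    (hf : ∀ i ∈ S, 0 ≤ f i) {k : ι} (hk : k ∈ S) (h0 : f k = 0) :
    P.root k ∈ RootD.natSpan P {a | a ∈ simples P S ∧ f a = 0} := by
  have key : ∀ k, P.root k ∈ RootD.natSpan P (simples P S) → f k = 0 →
      P.root k ∈ RootD.natSpan P {a | a ∈ simples P S ∧ f a = 0} := fun k hk =>
    natSpan_induction P
      (p := fun k => f k = 0 → P.root k ∈ RootD.natSpan P {a | a ∈ simples P S ∧ f a = 0})
      (fun a ha h => root_mem_natSpan P ⟨ha, h⟩)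
      (fun k j a ha h hj ih hk => by
        rw [hadd j a k h] at hk
        have hj' := hf j (mem_of_natSpan P (isClosed_of_isPosSys P hS)
          (natSpan_mono P (simples_subset P S) hj))
        have ha' := hf a ha.1
        obtain ⟨h1, h2⟩ := (add_eq_zero_iff_of_nonneg hj' ha').mp hk
        rw [h]
        exact add_mem (ih h1) (root_mem_natSpan P ⟨ha, h2⟩)) hk
  exact key k (mem_natSpan_simples P (posSys_disjoint P hS) (isClosed_of_isPosSys P hS) hk) h0

end Refine

/-- A saturated set of roots is the trace of a system of simple roots; one may prescribe the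
positive system inside it. -/
theorem exists_posSys_saturated {R' : Set ι}
    (hsat : ∀ k : ι, (∃ n : ℕ, 0 < n ∧ n • P.root k ∈ Submodule.span ℤ (P.root '' R')) → k ∈ R')
    {Q : Set ι} (hQ : Q ⊆ R') (hd : ∀ i ∈ Q, negIdx P i ∉ Q)
    (hc : ∀ i ∈ R', i ∈ Q ∨ negIdx P i ∈ Q) (hcl : RootD.IsClosedSub P Q) :
    ∃ S : Set ι, RootD.IsPosSys P S ∧ S ∩ R' = Q ∧
      (∀ i j k, i ∈ S → j ∈ S → P.root k = P.root i + P.root j → k ∈ R' → i ∈ Q ∧ j ∈ Q) ∧
      (∀ k ∈ R', P.root k ∈ Submodule.span ℤ (P.root '' (simples P S ∩ R'))) ∧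
      ∀ k, P.root k ∈ Submodule.span ℤ (P.root '' (simples P S ∩ R')) → k ∈ R' := by
  obtain ⟨m, f, hneg, hadd, hker⟩ := exists_fun_ker P (P.root '' R')
  have hker' : ∀ i, f i = 0 ↔ i ∈ R' := fun i => by
    rw [hker]
    exact ⟨hsat i, fun h => ⟨1, one_pos, by
      rw [one_nsmul]; exact Submodule.subset_span ⟨i, h, rfl⟩⟩⟩
  have hS := isPosSys_refine P f hneg hadd Q (fun i hi => (hker' i).mpr (hQ hi)) hd
    (fun i hi => hc i ((hker' i).mp hi)) hcl
  let S : Set ι := {i | 0 < f i ∨ i ∈ Q}
  have hnn : ∀ i ∈ S, 0 ≤ f i := fun i hi =>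
    hi.elim le_of_lt fun h => ((hker' i).mpr (hQ h)).ge
  have hinter : ∀ i ∈ S, f i = 0 → i ∈ Q := fun i hi h => hi.resolve_left (by rw [h]; exact lt_irrefl _)
  refine ⟨S, hS, ?_, ?_, ?_, ?_⟩
  · exact Subset.antisymm (fun i ⟨hi, hiR⟩ => hinter i hi ((hker' i).mpr hiR))
      fun i hi => ⟨Or.inr hi, hQ hi⟩
  · intro i j k hi hj h hk
    have := (hker' k).mpr hk
    rw [hadd i j k h] at this
    obtain ⟨h1, h2⟩ := (add_eq_zero_iff_of_nonneg (hnn i hi) (hnn j hj)).mp this
    exact ⟨hinter i hi h1, hinter j hj h2⟩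
  · intro k hk
    have key : ∀ k ∈ S, k ∈ R' → P.root k ∈ Submodule.span ℤ (P.root '' (simples P S ∩ R')) := by
      intro k hkS hk
      have := natSpan_le_span P _ _ (face P hS f hadd hnn hkS ((hker' k).mpr hk))
      refine Submodule.span_mono (Set.image_mono ?_) this
      exact fun a ha => ⟨ha.1, (hker' a).mp ha.2⟩
    rcases hS.cover k with h | h
    · exact key k h hk
    · have h2 : f (negIdx P k) = 0 := by rw [hneg, (hker' k).mpr hk, neg_zero]
      simpa using key _ h ((hker' _).mp h2)
  · intro k hk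
    exact hsat k ⟨1, one_pos, by
      rw [one_nsmul]; exact Submodule.span_mono (Set.image_mono inter_subset_right) hk⟩

/-- A closed set containing the positive roots is the union of them and the negatives of a face. -/
theorem closed_superset_eq {Δ : Set ι} (hΔ : RootD.IsSimpleSys P Δ) {P' : Set ι}
    (hcl : RootD.IsClosedSub P P') (hSP : RootD.posOf P Δ ⊆ P') :
    P' = RootD.posOf P Δ ∪
      {k | -P.root k ∈ RootD.natSpan P {i | i ∈ Δ ∧ negIdx P i ∈ P'}} := by
  apply Subset.antisymm
  · intro k hk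
    by_cases hkS : k ∈ RootD.posOf P Δ
    · exact Or.inl hkS
    have hn : negIdx P k ∈ RootD.posOf P Δ := (not_mem_iff P (isPosSys_posOf hΔ)).mp hkS
    refine Or.inr ?_
    have key : ∀ l ∈ RootD.posOf P Δ, negIdx P l ∈ P' →
        P.root l ∈ RootD.natSpan P {i | i ∈ Δ ∧ negIdx P i ∈ P'} := fun l hl =>
      natSpan_induction P
        (p := fun l => negIdx P l ∈ P' → P.root l ∈ RootD.natSpan P {i | i ∈ Δ ∧ negIdx P i ∈ P'})
        (fun a ha h => root_mem_natSpan P ⟨ha, h⟩)
        (fun k j a ha h hj ih hk => by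
          have h1 : negIdx P a ∈ P' := hcl hk (hSP hj) (by rw [root_negIdx, root_negIdx, h]; abel)
          have h2 : negIdx P j ∈ P' := hcl hk (hSP (self_mem_posOf hΔ ha))
            (by rw [root_negIdx, root_negIdx, h]; abel)
          rw [h]
          exact add_mem (ih h2) (root_mem_natSpan P ⟨ha, h1⟩)) hl
    simpa using key _ hn (by simpa using hk)
  · rintro k (hk | hk)
    · exact hSP hk
    · have hcl2 : RootD.IsClosedSub P {i | negIdx P i ∈ P'} := fun i j l hi hj h =>
        hcl hi hj (by rw [root_negIdx, root_negIdx, root_negIdx, h]; abel)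
      have h2 : negIdx P k ∈ RootD.posOf P {i | i ∈ Δ ∧ negIdx P i ∈ P'} := by
        change P.root (negIdx P k) ∈ RootD.natSpan P _; rwa [root_negIdx]
      simpa using natSpan_subset P hcl2 (fun i hi => hi.2) h2

section Partition

variable {R' : Set ι}

/-- A partition of the roots into two closed symmetric sets. -/
structure IsPartition (R' : Set ι) : Prop where
  closed : RootD.IsClosedSub P R'
  symm : RootD.IsSymmSub P R'
  closed' : RootD.IsClosedSub P R'ᶜ
  symm' : RootD.IsSymmSub P R'ᶜ

variable {P}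

lemma IsPartition.compl (h : IsPartition P R') : IsPartition P R'ᶜ :=
  ⟨h.closed', h.symm', by rw [compl_compl]; exact h.closed, by rw [compl_compl]; exact h.symm⟩

lemma IsPartition.tri (h : IsPartition P R') {i j k : ι}
    (he : P.root k = P.root i + P.root j) :
    (i ∈ R' ∧ j ∈ R' ∧ k ∈ R') ∨ (i ∉ R' ∧ j ∉ R' ∧ k ∉ R') := by
  have hj' : P.root j = P.root k + P.root (negIdx P i) := by rw [root_negIdx, he]; abel
  have hi' : P.root i = P.root k + P.root (negIdx P j) := by rw [root_negIdx, he]; abel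
  by_cases hi : i ∈ R' <;> by_cases hj : j ∈ R'
  · exact Or.inl ⟨hi, hj, h.closed hi hj he⟩
  · exfalso
    by_cases hk : k ∈ R'
    · exact hj (h.closed hk (h.symm hi) hj')
    · exact h.closed' hk (h.symm' hj) hi' hi
  · exfalso
    by_cases hk : k ∈ R'
    · exact hi (h.closed hk (h.symm hj) hi')
    · exact h.closed' hk (h.symm' hi) hj' hj
  · exact Or.inr ⟨hi, hj, h.closed' hi hj he⟩

lemma IsPartition.isOrthogonal (h : IsPartition P R') {i j : ι} (hi : i ∈ R') (hj : j ∉ R') :
    P.IsOrthogonal i j := by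
  rw [isOrthogonal_iff]
  rcases lt_trichotomy (pz P i j) 0 with hp | hp | hp
  · exfalso
    have hne : P.root i ≠ -P.root j := fun e => hj (by
      have : j = negIdx P i := P.root.injective (by rw [root_negIdx, e, neg_neg])
      rw [this]; exact h.symm hi)
    obtain ⟨k, hk⟩ := add_mem P hp hne
    rcases h.tri hk with ⟨-, h2, -⟩ | ⟨h1, -, -⟩
    · exact hj h2
    · exact h1 hi
  · exact hp
  · exfalso
    obtain ⟨k, hk⟩ := sub_mem P hp (fun e => hj (e ▸ hi))
    rcases h.tri (show P.root i = P.root k + P.root j by rw [hk]; abel) with ⟨-, h2, -⟩ | ⟨-, -, h1⟩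
    · exact hj h2
    · exact h1 hi

/-- A set with no non-orthogonality across its boundary gives a partition. -/
lemma isPartition_of_orthogonal (h : ∀ i ∈ R', ∀ j ∉ R', P.IsOrthogonal i j) :
    IsPartition P R' := by
  have hz : ∀ {i j}, i ∈ R' → j ∉ R' → pz P i j = 0 := fun hi hj => (isOrthogonal_iff P).mp (h _ hi _ hj)
  have hz' : ∀ {i j}, i ∉ R' → j ∈ R' → pz P i j = 0 := fun hi hj => pz_eq_zero_symm P (hz hj hi)
  refine ⟨fun i j k hi hj he => ?_, fun i hi => ?_, fun i j k hi hj he hk => ?_, fun i hi hn => ?_⟩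
  · by_contra hk
    have := pz_add P he k
    rw [pz_self, hz hi hk, hz hj hk] at this
    lia
  · change negIdx P i ∈ R'
    by_contra hn
    have := hz hi hn
    have h2 := pz_negIdx_left P i (negIdx P i)
    rw [pz_self, this] at h2
    lia
  · have := pz_add P he k
    rw [pz_self, hz' hi hk, hz' hj hk] at this
    lia
  · change negIdx P i ∈ R' at hn
    have := hz hn hi
    rw [pz_negIdx_left, pz_self] at this
    lia

lemma IsPartition.subset_span (h : IsPartition P R') {Δ : Set ι} (hΔ : RootD.IsSimpleSys P Δ)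
    {k : ι} (hk : k ∈ R') : P.root k ∈ Submodule.span ℤ (P.root '' (Δ ∩ R')) := by
  have key : ∀ k ∈ RootD.posOf P Δ, k ∈ R' → P.root k ∈ Submodule.span ℤ (P.root '' (Δ ∩ R')) :=
    fun k hk => natSpan_induction P
      (p := fun k => k ∈ R' → P.root k ∈ Submodule.span ℤ (P.root '' (Δ ∩ R')))
      (fun a ha h' => Submodule.subset_span ⟨a, ⟨ha, h'⟩, rfl⟩)
      (fun k j a ha he _ ih hk => by
        rcases h.tri he with ⟨h1, h2, -⟩ | ⟨-, -, h3⟩
        · rw [he]
          exact add_mem (ih h1) (Submodule.subset_span ⟨a, ⟨ha, h2⟩, rfl⟩)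
        · exact absurd hk h3) hk
  rcases (isPosSys_posOf hΔ).cover k with h' | h'
  · exact key k h' hk
  · simpa using key _ h' (h.symm hk)

lemma IsPartition.eq_span (h : IsPartition P R') {Δ : Set ι} (hΔ : RootD.IsSimpleSys P Δ) :
    R' = {k | P.root k ∈ Submodule.span ℤ (P.root '' (Δ ∩ R'))} := by
  refine Subset.antisymm (fun k hk => h.subset_span hΔ hk) fun k hk => ?_
  by_contra hn
  have h1 := (mem_inSpanZ_iff hΔ inter_subset_left).mp (h.compl.subset_span hΔ hn)
  have h2 := (mem_inSpanZ_iff hΔ inter_subset_left).mp hk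
  refine coeff_ne_zero hΔ k (Finsupp.support_eq_empty.mp (Finset.eq_empty_of_forall_notMem ?_))
  exact fun x hx => (h1 hx).2 (h2 hx).2

end Partition

/-- The component of a root for the non-orthogonality relation. -/
abbrev component (i : ι) : Set ι :=
  {j | Relation.ReflTransGen (fun a b : ι => ¬ P.IsOrthogonal a b) i j}

lemma isPartition_component (i : ι) : IsPartition P (component P i) :=
  isPartition_of_orthogonal fun a ha b hb => by
    by_contra h
    exact hb (Relation.ReflTransGen.tail ha h)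

/-- Irreducibility in terms of the non-orthogonality relation. -/
lemma connected_of_irreducible
    (hirr : ∀ R' : Set ι, RootD.IsClosedSub P R' → RootD.IsSymmSub P R' → RootD.IsClosedSub P R'ᶜ →
      RootD.IsSymmSub P R'ᶜ → R' = ∅ ∨ R' = Set.univ) (i j : ι) :
    Relation.ReflTransGen (fun a b : ι => ¬ P.IsOrthogonal a b) i j := by
  obtain ⟨h1, h2, h3, h4⟩ := isPartition_component P i
  rcases hirr _ h1 h2 h3 h4 with h | h
  · exact absurd h (Set.Nonempty.ne_empty ⟨i, Relation.ReflTransGen.refl⟩)
  · exact (h ▸ Set.mem_univ j : j ∈ component P i)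

lemma dvd_of_zsmul_eq {i j : ι} (hind : RootD.IsIndiv P i) {a b : ℤ} (hb : b ≠ 0)
    (h : b • P.root j = a • P.root i) : b ∣ a := by
  obtain ⟨h1, h2⟩ := pz_mul_pz_of_smul_eq P hb h
  rcases Int.even_or_odd (pz P j i) with ⟨t, ht⟩ | ⟨t, ht⟩
  · exact ⟨t, by rw [ht] at h1; linarith⟩
  exfalso
  have ha : a ≠ 0 := fun e => by rw [e] at h2; exact hb (by linarith)
  have hpq : pz P j i * pz P i j = 4 := by
    have : b * a * (pz P j i * pz P i j) = b * a * 4 := by
      calc b * a * (pz P j i * pz P i j) = (b * pz P j i) * (a * pz P i j) := by ring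
        _ = (2 * a) * (2 * b) := by rw [h1, ← h2]
        _ = b * a * 4 := by ring
    exact mul_left_cancel₀ (mul_ne_zero hb ha) this
  have hu : (pz P j i).natAbs = 1 := by
    have hd : (pz P j i).natAbs ∣ 4 := ⟨(pz P i j).natAbs, by rw [← Int.natAbs_mul, hpq]; rfl⟩
    have hle := Nat.le_of_dvd (by norm_num) hd
    interval_cases hn : (pz P j i).natAbs <;> first | rfl | lia
  rw [isIndiv_iff] at hind
  rcases Int.natAbs_eq_iff.mp hu with hp | hp
  · refine hind j ?_
    rw [hp] at h1
    have hb2 : b = 2 * a := by simpa using h1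
    rw [hb2, mul_smul] at h
    have : a • ((2 : ℤ) • P.root j - P.root i) = 0 := by
      rw [smul_sub, smul_comm a (2 : ℤ), h, sub_self]
    have := sub_eq_zero.mp (zsmul_eq_zero_weight P ha this)
    rw [← this]; exact natCast_zsmul (P.root j) 2
  · refine hind (negIdx P j) ?_
    rw [hp] at h1
    have hb2 : b = -(2 * a) := by push_cast at h1; linarith
    rw [hb2, neg_smul, mul_smul] at h
    have : a • ((2 : ℤ) • P.root j + P.root i) = 0 := by
      rw [smul_add, smul_comm a (2 : ℤ), ← h]; abel
    have := zsmul_eq_zero_weight P ha this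
    rw [root_negIdx, eq_neg_of_add_eq_zero_right this, smul_neg, two_nsmul, two_zsmul]

end Groth.Agent.Lib.RootDatum.Sub
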