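import Mathlib.LinearAlgebra.RootSystem.Base
import Mathlib.LinearAlgebra.RootSystem.WeylGroup
import Mathlib.LinearAlgebra.RootSystem.Finite.Nondegenerate
import Groth.Prelude.Def_W4sga3xxiRoot

/-!
Basic lemmas on finite crystallographic root pairings over a domain of characteristic zero
(possibly non-reduced).
-/

noncomputable section

open Set Function Module Submodule

set_option linter.unusedSectionVars false
set_option linter.style.haveILetI false

namespace Groth.Agent.Lib.RootDatum.Basic

variable {ι R M N : Type*} [CommRing R] [AddCommGroup M] [Module R M] [AddCommGroup N] [Module R N]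
  (P : RootPairing ι R M N)

include P in
lemma isTorsionFree_weight [IsDomain R] : Module.IsTorsionFree R M :=
  haveI : Module.IsReflexive R M := .of_isPerfPair P.toLinearMap
  inferInstance

include P in
lemma isAddTorsionFree_weight [IsDomain R] [CharZero R] : IsAddTorsionFree M :=
  haveI := isTorsionFree_weight P
  .of_isTorsionFree R M

include P in
lemma isTorsionFree_coweight [IsDomain R] : Module.IsTorsionFree R N :=
  isTorsionFree_weight P.flip

include P in
lemma isAddTorsionFree_coweight [IsDomain R] [CharZero R] : IsAddTorsionFree N :=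
  isAddTorsionFree_weight P.flip

include P in
lemma zsmul_eq_zero_weight [IsDomain R] [CharZero R] {n : ℤ} {x : M} (hn : n ≠ 0)
    (h : n • x = 0) : x = 0 := by
  haveI := isAddTorsionFree_weight P
  exact (smul_eq_zero.mp h).resolve_left hn

include P in
lemma nsmul_eq_zero_weight [IsDomain R] [CharZero R] {n : ℕ} {x : M} (hn : n ≠ 0)
    (h : n • x = 0) : x = 0 := by
  haveI := isAddTorsionFree_weight P
  exact (smul_eq_zero.mp h).resolve_left hn

/-- the index of the opposite root -/
abbrev negIdx (i : ι) : ι := P.reflectionPerm i i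

@[simp] lemma root_negIdx (i : ι) : P.root (negIdx P i) = -P.root i := by
  rw [negIdx, P.root_reflectionPerm, P.reflection_apply_self]

@[simp] lemma coroot_negIdx (i : ι) : P.coroot (negIdx P i) = -P.coroot i := by
  rw [negIdx, P.coroot_reflectionPerm, P.coreflection_apply_self]

@[simp] lemma negIdx_negIdx (i : ι) : negIdx P (negIdx P i) = i :=
  P.root.injective (by rw [root_negIdx, root_negIdx, neg_neg])

lemma negIdx_eq_iff {i j : ι} : negIdx P i = j ↔ P.root j = -P.root i := by
  constructor
  · rintro rfl; rw [root_negIdx]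
  · intro h; exact P.root.injective (by rw [root_negIdx, h])

lemma negIdx_ne [IsDomain R] [CharZero R] (i : ι) : negIdx P i ≠ i := by
  intro h
  have h' := congrArg P.root h
  rw [root_negIdx] at h'
  have h2 : (2 : ℕ) • P.root i = 0 := by rw [two_nsmul]; nth_rw 1 [← h']; simp
  exact P.ne_zero i (nsmul_eq_zero_weight P two_ne_zero h2)

section Crystallographic

variable [IsDomain R] [CharZero R] [P.IsCrystallographic]

/-- The integer pairing. -/
abbrev pz (i j : ι) : ℤ := P.pairingIn ℤ i j

@[simp] lemma cast_pz (i j : ι) : ((pz P i j : ℤ) : R) = P.pairing i j := by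
  simpa using P.algebraMap_pairingIn ℤ i j

lemma coroot'_root (i j : ι) : P.coroot' j (P.root i) = (pz P i j : R) := by
  rw [cast_pz]; exact P.root_coroot'_eq_pairing j i

@[simp] lemma pz_self (i : ι) : pz P i i = 2 := P.pairingIn_same ℤ i

lemma pz_eq_iff {i j : ι} {z : ℤ} : pz P i j = z ↔ P.pairing i j = (z : R) := by
  rw [← cast_pz P i j]; exact Int.cast_inj.symm

lemma pz_eq_of_root_eq {i l : ι} {z : ℤ} (h : P.root l = z • P.root i) (j : ι) :
    pz P l j = z * pz P i j := by
  apply Int.cast_injective (α := R)
  rw [← coroot'_root P l j, h, map_zsmul, coroot'_root, zsmul_eq_mul, Int.cast_mul]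

@[simp] lemma pz_negIdx_left (i j : ι) : pz P (negIdx P i) j = -pz P i j := by
  rw [pz_eq_of_root_eq P (z := -1) (i := i) (by simp)]; ring

lemma pz_add {i j k : ι} (h : P.root k = P.root i + P.root j) (l : ι) :
    pz P k l = pz P i l + pz P j l := by
  apply Int.cast_injective (α := R)
  rw [Int.cast_add, ← coroot'_root P k, ← coroot'_root P i, ← coroot'_root P j, h, map_add]

lemma root_reflectionPerm_eq (i j : ι) :
    P.root (P.reflectionPerm i j) = P.root j - pz P j i • P.root i := by
  rw [P.root_reflectionPerm, P.reflection_apply_root, ← cast_pz P j i, Int.cast_smul_eq_zsmul]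

lemma reflection_root_eq (i j : ι) :
    P.reflection i (P.root j) = P.root j - pz P j i • P.root i := by
  rw [← P.root_reflectionPerm]; exact root_reflectionPerm_eq P i j

lemma coroot'_list_sum (l : List ι) (j : ι) :
    P.coroot' j (l.map P.root).sum = (((l.map fun a => pz P a j).sum : ℤ) : R) := by
  induction l with
  | nil => simp
  | cons a l ih =>
    rw [List.map_cons, List.sum_cons, map_add, ih, coroot'_root, List.map_cons, List.sum_cons,
      Int.cast_add]

variable [Finite ι]

/-- `z • root i` is a root only for `z ∈ {±1, ±2}` or when it is `±` half. -/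
lemma pz_mul_pz_of_smul_eq {i l : ι} {a b : ℤ} (_ha : a ≠ 0) (h : a • P.root l = b • P.root i) :
    a * pz P l i = 2 * b ∧ 2 * a = b * pz P i l := by
  constructor
  · apply Int.cast_injective (α := R)
    have := congrArg (P.coroot' i) h
    simp only [map_zsmul, coroot'_root, zsmul_eq_mul, pz_self] at this
    push_cast at this ⊢
    rw [this]; ring
  · apply Int.cast_injective (α := R)
    have := congrArg (P.coroot' l) h
    simp only [map_zsmul, coroot'_root, zsmul_eq_mul, pz_self] at this
    push_cast at this ⊢
    rw [← this]; ring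

lemma nat_multiple_mem {i l : ι} {n : ℕ} (h : P.root l = n • P.root i) :
    (n = 1 ∧ l = i) ∨ n = 2 := by
  have h' : (1 : ℤ) • P.root l = (n : ℤ) • P.root i := by simpa using h
  have h2 := (pz_mul_pz_of_smul_eq P one_ne_zero h').2
  have hd : (n : ℤ) ∣ 2 := ⟨pz P i l, by linarith⟩
  have hn : n ∣ 2 := by exact_mod_cast hd
  rcases (Nat.dvd_prime Nat.prime_two).mp hn with rfl | rfl
  · left; exact ⟨rfl, P.root.injective (by simpa using h)⟩
  · right; rfl

lemma coroot_of_root_double {i l : ι} (h : P.root l = (2 : ℕ) • P.root i) :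
    (2 : ℕ) • P.coroot l = P.coroot i := by
  haveI := isAddTorsionFree_coweight P
  have h' : P.root l = (2 : R) • P.root i := by
    rw [h, ← Nat.cast_smul_eq_nsmul R]; norm_num
  rw [← P.smul_coroot_eq_of_root_eq_smul i l (2 : R) h', ← Nat.cast_smul_eq_nsmul R]; norm_num

lemma reflection_eq_of_root_double {i l : ι} (h : P.root l = (2 : ℕ) • P.root i) :
    P.reflection l = P.reflection i := by
  ext x
  have hc : P.coroot' i x = (2 : ℕ) • P.coroot' l x := by
    change P.toLinearMap x (P.coroot i) = (2 : ℕ) • P.toLinearMap x (P.coroot l)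
    rw [← coroot_of_root_double P h, map_nsmul]
  rw [P.reflection_apply, P.reflection_apply, h, hc]
  module

lemma sub_mem {i j : ι} (h : 0 < pz P i j) (hne : i ≠ j) :
    ∃ k, P.root k = P.root i - P.root j := by
  obtain ⟨k, hk⟩ := P.root_sub_root_mem_of_pairingIn_pos h hne
  exact ⟨k, hk⟩

lemma add_mem {i j : ι} (h : pz P i j < 0) (hne : P.root i ≠ -P.root j) :
    ∃ k, P.root k = P.root i + P.root j := by
  obtain ⟨k, hk⟩ := P.root_add_root_mem_of_pairingIn_neg h hne
  exact ⟨k, hk⟩

lemma pz_pos_symm {i j : ι} (h : 0 < pz P i j) : 0 < pz P j i :=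
  (P.zero_lt_pairingIn_iff' ℤ).mp h

lemma pz_neg_symm {i j : ι} (h : pz P i j < 0) : pz P j i < 0 :=
  (P.pairingIn_lt_zero_iff ℤ).mp h

lemma pz_eq_zero_symm {i j : ι} (h : pz P i j = 0) : pz P j i = 0 := by
  rcases lt_trichotomy (pz P j i) 0 with h' | h' | h'
  · exact absurd (pz_neg_symm P h') (by lia)
  · exact h'
  · exact absurd (pz_pos_symm P h') (by lia)

lemma isOrthogonal_iff {i j : ι} : P.IsOrthogonal i j ↔ pz P i j = 0 := by
  constructor
  · intro h; exact (pz_eq_iff P).mpr (by simpa using h.1)
  · intro h
    refine ⟨?_, ?_⟩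
    · simpa using (pz_eq_iff P).mp h
    · simpa using (pz_eq_iff P).mp (pz_eq_zero_symm P h)

lemma eq_zero_of_mem_span_of_coroot'_eq_zero {v : M} (hv : v ∈ Submodule.span R (range P.root))
    (h : ∀ k, P.coroot' k v = 0) : v = 0 := by
  haveI := Fintype.ofFinite ι
  refine Submodule.disjoint_def.mp (RootPairing.disjoint_rootSpan_ker_rootForm P) v hv ?_
  rw [LinearMap.mem_ker]
  ext y
  rw [P.rootForm_apply_apply]
  exact Finset.sum_eq_zero fun k _ => by rw [h k, zero_mul]

/-- Linear independence over `ℤ` of roots implies linear independence over `R`. -/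
lemma linearIndepOn_of_int {S : Set ι} (h : LinearIndepOn ℤ P.root S) :
    LinearIndepOn R P.root S := by
  classical
  haveI := Fintype.ofFinite ι
  rw [linearIndepOn_iff']
  intro t g ht hg i hi
  let G : Matrix ↥t ↥t ℤ := Matrix.of fun a b => ∑ k, pz P a k * pz P b k
  have hdet : G.det ≠ 0 := by
    intro h0
    obtain ⟨z, hz0, hz⟩ := Matrix.exists_mulVec_eq_zero_iff.mpr h0
    have hsq : ∑ k, (∑ a : ↥t, z a * pz P a k) * (∑ a : ↥t, z a * pz P a k) = 0 := by
      have : ∑ a : ↥t, z a * (G.mulVec z) a = 0 := by rw [hz]; simp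
      rw [← this]
      simp only [Matrix.mulVec, dotProduct, G, Matrix.of_apply, Finset.mul_sum, Finset.sum_mul]
      conv_lhs => rw [Finset.sum_comm]
      conv_lhs => enter [2, a]; rw [Finset.sum_comm]
      refine Finset.sum_congr rfl fun a _ => Finset.sum_congr rfl fun b _ =>
        Finset.sum_congr rfl fun k _ => by ring
    have hk : ∀ k, ∑ a : ↥t, z a * pz P a k = 0 := fun k =>
      mul_self_eq_zero.mp
        ((Finset.sum_eq_zero_iff_of_nonneg fun k _ => mul_self_nonneg _).mp hsq k (Finset.mem_univ _))
    have hv : ∑ a : ↥t, z a • P.root a = 0 := by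
      apply eq_zero_of_mem_span_of_coroot'_eq_zero P
      · exact Submodule.sum_mem _ fun a _ => by
          rw [← Int.cast_smul_eq_zsmul R]
          exact Submodule.smul_mem _ _ (Submodule.subset_span (mem_range_self _))
      · intro k
        rw [map_sum]
        simp only [map_zsmul, coroot'_root, zsmul_eq_mul]
        exact_mod_cast congrArg (Int.cast : ℤ → R) (hk k)
    have hli : LinearIndependent ℤ (fun a : ↥t => P.root a) := h.mono ht
    exact hz0 (funext fun a => Fintype.linearIndependent_iff.mp hli z hv a)
  let GR : Matrix ↥t ↥t R := (Int.castRingHom R).mapMatrix G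
  have hdR : GR.det ≠ 0 := by
    rw [← RingHom.map_det]
    simpa using hdet
  have hmv : GR.mulVec (fun a : ↥t => g a) = 0 := by
    ext b
    have hk : ∀ k, ∑ a : ↥t, g a * (pz P a k : R) = 0 := by
      intro k
      have := congrArg (P.coroot' k) hg
      rw [map_sum, map_zero, ← Finset.sum_coe_sort] at this
      simp only [map_smul, coroot'_root, smul_eq_mul] at this
      exact this
    simp only [Matrix.mulVec, dotProduct, GR, G, RingHom.mapMatrix_apply, Matrix.map_apply,
      Matrix.of_apply, map_sum, map_mul, eq_intCast, Finset.sum_mul, Pi.zero_apply]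
    rw [Finset.sum_comm]
    refine Finset.sum_eq_zero fun k _ => ?_
    have h2 : ∑ a : ↥t, ((pz P b k : R) * (pz P a k : R)) * g a =
        (pz P b k : R) * ∑ a : ↥t, g a * (pz P a k : R) := by
      rw [Finset.mul_sum]
      exact Finset.sum_congr rfl fun a _ => by ring
    rw [h2, hk k, mul_zero]
  have := Matrix.eq_zero_of_mulVec_eq_zero (v := fun a : ↥t => g a) hdR hmv
  exact congrFun this ⟨i, hi⟩

/-- The integral root form. -/
def bz [Fintype ι] (i j : ι) : ℤ := ∑ k, pz P i k * pz P j k

omit [Finite ι] in
lemma cast_bz [Fintype ι] (i j : ι) : (bz P i j : R) = P.RootForm (P.root i) (P.root j) := by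
  rw [P.rootForm_apply_apply, bz, Int.cast_sum]
  exact Finset.sum_congr rfl fun k _ => by rw [coroot'_root, coroot'_root, Int.cast_mul]

omit [Finite ι] in
lemma bz_comm [Fintype ι] (i j : ι) : bz P i j = bz P j i :=
  Finset.sum_congr rfl fun _ _ => mul_comm _ _

omit [Finite ι] in
lemma bz_self_pos [Fintype ι] (i : ι) : 0 < bz P i i := by
  refine Finset.sum_pos' (fun k _ => mul_self_nonneg _) ⟨i, Finset.mem_univ _, ?_⟩
  simp

omit [Finite ι] in
lemma two_mul_bz [Fintype ι] (i j : ι) : 2 * bz P i j = pz P i j * bz P j j := by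
  apply Int.cast_injective (α := R)
  push_cast
  rw [cast_bz, cast_bz]
  simpa using P.toInvariantForm.two_mul_apply_root_root i j

omit [Finite ι] in
lemma pz_mul_bz_comm [Fintype ι] (i j : ι) : pz P i j * bz P j j = pz P j i * bz P i i := by
  rw [← two_mul_bz, ← two_mul_bz, bz_comm]

end Crystallographic

section Aut

variable [IsDomain R] [CharZero R]

lemma root_smul (g : P.Aut) (i : ι) : P.root (g • i) = g • P.root i :=
  RootPairing.Equiv.root_indexEquiv_eq_smul P i g

lemma weightHom_eq_smul (g : P.Aut) (m : M) : RootPairing.Equiv.weightHom P g m = g • m := rfl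

lemma coroot'_smul (g : P.Aut) (i : ι) (m : M) :
    P.coroot' (g • i) (g • m) = P.coroot' i m := by
  have h1 := RootPairing.Hom.weight_coweight_transpose_apply P P (P.coroot (g • i)) g.toHom
  have h2 := RootPairing.Hom.coroot_coweightMap_apply P P (g • i) g.toHom
  have h3 : g.toHom.indexEquiv.symm (g • i) = i := g.toHom.indexEquiv.symm_apply_apply i
  rw [h3] at h2
  rw [h2] at h1
  exact LinearMap.congr_fun h1 m

lemma aut_ext {g h : P.Aut} (H : ∀ m : M, g • m = h • m) : g = h :=
  RootPairing.Equiv.weightHom_injective P (LinearEquiv.ext H)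

lemma reflection_smul_idx (i j : ι) : RootPairing.Equiv.reflection P i • j = P.reflectionPerm i j :=
  rfl

lemma reflection_smul_weight (i : ι) (m : M) :
    RootPairing.Equiv.reflection P i • m = m - P.coroot' i m • P.root i :=
  P.reflection_apply i m

lemma smul_negIdx (g : P.Aut) (i : ι) : g • negIdx P i = negIdx P (g • i) :=
  P.root.injective (by rw [root_smul, root_negIdx, root_negIdx, root_smul, smul_neg])

lemma conj_reflection (u : P.Aut) (i : ι) :
    u * RootPairing.Equiv.reflection P i * u⁻¹ = RootPairing.Equiv.reflection P (u • i) := by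
  apply aut_ext P
  intro m
  have h := coroot'_smul P u i (u⁻¹ • m)
  rw [smul_inv_smul] at h
  rw [mul_smul, mul_smul, reflection_smul_weight, reflection_smul_weight, smul_sub, smul_inv_smul,
    smul_comm, ← root_smul, h]

lemma reflection_mul_self (i : ι) :
    RootPairing.Equiv.reflection P i * RootPairing.Equiv.reflection P i = 1 := by
  nth_rw 1 [← RootPairing.Equiv.reflection_inv P i]
  exact inv_mul_cancel _

variable [P.IsCrystallographic]

lemma pz_smul (g : P.Aut) (i j : ι) : pz P (g • i) (g • j) = pz P i j := by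
  apply Int.cast_injective (α := R)
  rw [← coroot'_root P (g • i), ← coroot'_root P i, root_smul, coroot'_smul]

end Aut

end Groth.Agent.Lib.RootDatum.Basic
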