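import Groth.Agent.Lib.RootDatum.Sub

/-!
Root lengths, the dual system of positive roots, and sums over positive roots.
-/

noncomputable section

open Set Function Module
open Groth.Agent.Lib.RootDatum Groth.Agent.Lib.RootDatum.Basic Groth.Agent.Lib.RootDatum.PosSys

set_option linter.unusedSectionVars false
set_option linter.style.haveILetI false

namespace Groth.Agent.Lib.RootDatum.Length

variable {ι R M N : Type*} [CommRing R] [AddCommGroup M] [Module R M] [AddCommGroup N] [Module R N]
  (P : RootPairing ι R M N) [IsDomain R] [CharZero R] [P.IsCrystallographic]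

lemma pz_flip (i j : ι) : pz P.flip i j = pz P j i := by
  apply Int.cast_injective (α := R)
  rw [cast_pz, cast_pz, P.pairing_flip]

variable [Finite ι]

lemma isOrthogonal_flip_iff (i j : ι) : P.flip.IsOrthogonal i j ↔ P.IsOrthogonal i j :=
  ⟨fun h => ⟨h.2, h.1⟩, fun h => ⟨h.2, h.1⟩⟩

/-- A partition for the dual root pairing is a partition. -/
lemma isPartition_of_flip {R' : Set ι} (h : Sub.IsPartition P.flip R') : Sub.IsPartition P R' :=
  Sub.isPartition_of_orthogonal fun i hi j hj => (isOrthogonal_flip_iff P i j).mp (h.isOrthogonal hi hj)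

lemma exists_conj_nonOrth {i j : ι}
    (h : Relation.ReflTransGen (fun a b : ι => ¬ P.IsOrthogonal a b) i j) :
    ∃ g ∈ P.weylGroup, pz P (g • i) j ≠ 0 := by
  induction h with
  | refl => exact ⟨1, one_mem _, by rw [one_smul]; simp⟩
  | @tail a b hia hab ih =>
    obtain ⟨g, hg, hga⟩ := ih
    by_cases hgb : pz P (g • i) b = 0
    · refine ⟨Weyl.refl P a * g, mul_mem (P.reflection_mem_weylGroup a) hg, ?_⟩
      have hl : P.root ((Weyl.refl P a * g) • i) =
          P.root (g • i) - pz P (g • i) a • P.root a := by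
        rw [mul_smul]; exact root_reflectionPerm_eq P a (g • i)
      intro h0
      have h2 := congrArg (P.coroot' b) hl
      rw [coroot'_root, h0, map_sub, map_zsmul, coroot'_root, coroot'_root, hgb, zsmul_eq_mul] at h2
      have h3 : pz P (g • i) a * pz P a b = 0 := by
        apply Int.cast_injective (α := R)
        push_cast at h2 ⊢
        linear_combination h2
      exact hab ((isOrthogonal_iff P).mpr ((mul_eq_zero.mp h3).resolve_left hga))
    · exact ⟨g, hg, hgb⟩

lemma bz_smul [Fintype ι] (g : P.Aut) (i j : ι) : bz P (g • i) (g • j) = bz P i j := by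
  refine Fintype.sum_equiv (MulAction.toPerm (g⁻¹ : P.Aut)) _ _ fun k => ?_
  change pz P (g • i) k * pz P (g • j) k = pz P i (g⁻¹ • k) * pz P j (g⁻¹ • k)
  rw [← pz_smul P g i (g⁻¹ • k), ← pz_smul P g j (g⁻¹ • k), smul_inv_smul]

lemma bz_negIdx [Fintype ι] (i : ι) : bz P (negIdx P i) (negIdx P i) = bz P i i :=
  Finset.sum_congr rfl fun k _ => by rw [pz_negIdx_left]; ring

lemma ratio [Fintype ι] {i j : ι} (h : pz P i j ≠ 0) (hle : bz P j j ≤ bz P i i) :
    bz P i i = bz P j j ∨ bz P i i = 2 * bz P j j ∨ bz P i i = 3 * bz P j j ∨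
      (bz P i i = 4 * bz P j j ∧ (pz P i j = 4 ∧ pz P j i = 1 ∨ pz P i j = -4 ∧ pz P j i = -1)) := by
  have hmem := P.pairingIn_pairingIn_mem_set_of_isCrystallographic i j
  have hc := pz_mul_bz_comm P i j
  have hi := bz_self_pos P i
  have hj := bz_self_pos P j
  simp only [pz] at h hc ⊢
  simp only [Set.mem_insert_iff, Set.mem_singleton_iff, Prod.mk.injEq] at hmem
  rcases hmem with ⟨a, b⟩ | ⟨a, b⟩ | ⟨a, b⟩ | ⟨a, b⟩ | ⟨a, b⟩ | ⟨a, b⟩ | ⟨a, b⟩ | ⟨a, b⟩ | ⟨a, b⟩ |
    ⟨a, b⟩ | ⟨a, b⟩ | ⟨a, b⟩ | ⟨a, b⟩ | ⟨a, b⟩ | ⟨a, b⟩ | ⟨a, b⟩ | ⟨a, b⟩ <;>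
    rw [a, b] at hc <;> rw [a, b] <;> first
      | exact absurd a h
      | (left; lia)
      | (right; left; lia)
      | (right; right; left; lia)
      | (right; right; right; exact ⟨by lia, by norm_num⟩)

lemma root_double_of_four {i j : ι}
    (h : pz P i j = 4 ∧ pz P j i = 1 ∨ pz P i j = -4 ∧ pz P j i = -1) :
    P.root i = (2 : ℕ) • P.root j ∨ P.root i = -((2 : ℕ) • P.root j) := by
  haveI := isTorsionFree_weight P
  haveI := isTorsionFree_coweight P
  rcases h with ⟨a, b⟩ | ⟨a, b⟩
  · left
    have := (P.pairingIn_one_four_iff ℤ j i).mp ⟨b, a⟩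
    rw [this, ← Nat.cast_smul_eq_nsmul R]; norm_num
  · right
    have := (P.pairingIn_neg_one_neg_four_iff ℤ j i).mp ⟨b, a⟩
    rw [this, ← Nat.cast_smul_eq_nsmul R]; norm_num

lemma cast_bz_coroot [Fintype ι] (i : ι) :
    (bz P.flip i i : R) = P.CorootForm (P.coroot i) (P.coroot i) := by
  rw [cast_bz, P.flip.rootForm_apply_apply, P.corootForm_apply_apply]
  rfl

lemma bz_mul_const [Fintype ι] {i j : ι} (h : pz P i j ≠ 0) :
    bz P i i * bz P.flip i i = bz P j j * bz P.flip j j := by
  have h1 := pz_mul_bz_comm P i j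
  have h2 := pz_mul_bz_comm P.flip i j
  rw [pz_flip, pz_flip] at h2
  have hji : pz P j i ≠ 0 := fun e => h (pz_eq_zero_symm P e)
  refine mul_left_cancel₀ (mul_ne_zero hji h) ?_
  linear_combination (-(pz P i j * bz P.flip i i)) * h1 + (-(pz P i j * bz P j j)) * h2

/-- `2 • Polarization` sends a root to the multiple of its coroot by its length. -/
lemma bz_zsmul_coroot [Fintype ι] (k : ι) :
    bz P k k • P.coroot k = (2 : ℕ) • P.Polarization (P.root k) := by
  rw [← Int.cast_smul_eq_zsmul R, cast_bz, P.rootForm_self_smul_coroot, ← Nat.cast_smul_eq_nsmul R]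

lemma polarization_injOn [Fintype ι] {v : M} (hv : v ∈ Submodule.span R (range P.root))
    (h : P.Polarization v = 0) : v = 0 := by
  refine Submodule.disjoint_def.mp (RootPairing.disjoint_rootSpan_ker_rootForm P) v hv ?_
  rw [← P.ker_polarization_eq_ker_rootForm]
  exact h

/-- A system of positive roots is one for the dual root pairing. -/
theorem isPosSys_flip {S : Set ι} (hS : RootD.IsPosSys P S) : RootD.IsPosSys P.flip S := by
  haveI := Fintype.ofFinite ι
  have hneg : ∀ i, negIdx P.flip i = negIdx P i := fun i =>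
    P.flip.root.injective <| by
      rw [root_negIdx]
      exact (coroot_negIdx P i).symm
  refine isPosSys_of_closed P.flip (fun i hi => ?_) (fun i => ?_) (fun i j k hi hj h => ?_)
  · rw [hneg]; exact fun hn => hS.disjoint hi hn
  · rw [hneg]; exact hS.cover i
  · have h' : P.coroot k = P.coroot i + P.coroot j := h
    obtain ⟨a, ha⟩ := Int.eq_ofNat_of_zero_le (bz_self_pos P i).le
    obtain ⟨b, hb⟩ := Int.eq_ofNat_of_zero_le (bz_self_pos P j).le
    obtain ⟨c, hc⟩ := Int.eq_ofNat_of_zero_le (bz_self_pos P k).le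
    have h0 : (2 : ℕ) • P.Polarization
        ((a * b) • P.root k - ((b * c) • P.root i + (a * c) • P.root j)) = 0 := by
      have ei := bz_zsmul_coroot P i
      have ej := bz_zsmul_coroot P j
      have ek := bz_zsmul_coroot P k
      rw [ha, natCast_zsmul] at ei
      rw [hb, natCast_zsmul] at ej
      rw [hc, natCast_zsmul] at ek
      rw [map_sub, map_add, map_nsmul, map_nsmul, map_nsmul, smul_sub, smul_add,
        smul_comm (2 : ℕ) (a * b), smul_comm (2 : ℕ) (b * c), smul_comm (2 : ℕ) (a * c),
        ← ei, ← ej, ← ek, h']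
      module
    have h1 : (a * b) • P.root k = (b * c) • P.root i + (a * c) • P.root j := by
      rw [← sub_eq_zero]
      refine polarization_injOn P ?_ ?_
      · refine Submodule.sub_mem _ ?_ (Submodule.add_mem _ ?_ ?_) <;>
          exact nsmul_mem (Submodule.subset_span (mem_range_self _)) _
      · haveI := isAddTorsionFree_coweight P
        exact (smul_eq_zero.mp h0).resolve_left two_ne_zero
    refine hS.sat (a * b) ?_ (h1 ▸ add_mem (nsmul_mem (root_mem_natSpan P hi) _)
      (nsmul_mem (root_mem_natSpan P hj) _))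
    have := bz_self_pos P i
    have := bz_self_pos P j
    exact Nat.mul_pos (by lia) (by lia)

section Sum

open Classical in
/-- positive roots not proportional to a simple root -/
def others [Fintype ι] (Δ : Set ι) (a : ι) : Finset ι :=
  Finset.univ.filter fun j => j ∈ RootD.posOf P Δ ∧ j ≠ a ∧ P.root j ≠ (2 : ℕ) • P.root a

variable {Δ : Set ι} (hΔ : RootD.IsSimpleSys P Δ)
include hΔ

lemma reflectionPerm_mem_others [Fintype ι] {a j : ι} (ha : a ∈ Δ) (hj : j ∈ others P Δ a) :
    P.reflectionPerm a j ∈ others P Δ a := by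
  classical
  simp only [others, Finset.mem_filter, Finset.mem_univ, true_and] at hj ⊢
  obtain ⟨h1, h2, h3⟩ := hj
  have hpos := reflectionPerm_mem_posOf hΔ ha h1 h2 h3
  have hna := (isPosSys_posOf hΔ).disjoint (self_mem_posOf hΔ ha)
  refine ⟨hpos, fun e => hna ?_, fun e => ?_⟩
  · have : j = negIdx P a := by rw [← P.reflectionPerm_self a j, e]
    rw [this] at h1; exact h1
  · have hr : P.root j = -((2 : ℕ) • P.root a) := by
      rw [← P.reflectionPerm_self a j, P.root_reflectionPerm, e, map_nsmul, P.reflection_apply_self,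
        smul_neg]
    have h5 := (mem_posOf_iff hΔ).mp h1 a
    have h6 : coeff hΔ j = (-2 : ℤ) • coeff hΔ a := by
      classical
      refine coeff_eq hΔ ((Finset.coe_subset.mpr Finsupp.support_smul).trans (coeff_support hΔ a)) ?_
      rw [map_zsmul, comb_coeff, hr, neg_smul, two_zsmul, two_nsmul]
    rw [h6, coeff_self hΔ ha] at h5
    simp at h5

lemma sum_others_left [Fintype ι] {a : ι} (ha : a ∈ Δ) :
    ∑ j ∈ others P Δ a, pz P j a = 0 := by
  have hinv : ∀ j, pz P (P.reflectionPerm a j) a = -pz P j a := by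
    intro j
    have h := pz_smul P (Weyl.refl P a) j a
    have e : Weyl.refl P a • a = negIdx P a := rfl
    rw [e] at h
    have h2 := pz_smul P (Weyl.refl P a) (P.reflectionPerm a j) a
    rw [e, show Weyl.refl P a • (P.reflectionPerm a j) = j from P.reflectionPerm_self a j] at h2
    rw [← h2]
    apply Int.cast_injective (α := R)
    rw [Int.cast_neg, ← coroot'_root P j, ← coroot'_root P j]
    change P.toLinearMap _ (P.coroot (negIdx P a)) = _
    rw [coroot_negIdx, map_neg]
    rfl
  have hs : ∑ j ∈ others P Δ a, pz P j a = ∑ j ∈ others P Δ a, -pz P j a :=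
    Finset.sum_nbij' (P.reflectionPerm a) (P.reflectionPerm a)
      (fun j hj => reflectionPerm_mem_others P hΔ ha hj)
      (fun j hj => reflectionPerm_mem_others P hΔ ha hj)
      (fun j _ => P.reflectionPerm_self a j) (fun j _ => P.reflectionPerm_self a j)
      (fun j _ => by rw [hinv, neg_neg])
  rw [Finset.sum_neg_distrib] at hs
  lia

lemma sum_others_right [Fintype ι] {a : ι} (ha : a ∈ Δ) :
    ∑ j ∈ others P Δ a, pz P a j = 0 := by
  have hinv : ∀ j, pz P a (P.reflectionPerm a j) = -pz P a j := by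
    intro j
    have h := pz_smul P (Weyl.refl P a) a j
    rw [show Weyl.refl P a • a = negIdx P a from rfl, pz_negIdx_left] at h
    change -pz P a (P.reflectionPerm a j) = pz P a j at h
    lia
  have hs : ∑ j ∈ others P Δ a, pz P a j = ∑ j ∈ others P Δ a, -pz P a j :=
    Finset.sum_nbij' (P.reflectionPerm a) (P.reflectionPerm a)
      (fun j hj => reflectionPerm_mem_others P hΔ ha hj)
      (fun j hj => reflectionPerm_mem_others P hΔ ha hj)
      (fun j _ => P.reflectionPerm_self a j) (fun j _ => P.reflectionPerm_self a j)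
      (fun j _ => by rw [hinv, neg_neg])
  rw [Finset.sum_neg_distrib] at hs
  lia

end Sum

end Groth.Agent.Lib.RootDatum.Length
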